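import Cfsg.Agent.Lib.Lie.GroupCard
import Cfsg.Agent.Lib.Lie.SL2Hom

/-!
In a Chevalley group over a field of odd order with injective torus map, every involution is
conjugate to a diagonal element: the Bruhat form reduces it to the monomial group, and rank one
rotations shorten the Weyl group part.
-/

set_option autoImplicit false

namespace Cfsg.Agent.Small.ChevInvol

open Cfsg.Lie Cfsg.Agent.Lie
open scoped MatrixGroups

variable {D : ChevalleyDatum} {F : Type*} [Field F] (hF : Facts D)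

/-- g lies in H n_w. -/
def InN (g : GL D.Idx F) (w : hF.weyl) : Prop :=
  ∃ a ∈ (hF.tsys F).H, g = a * (hF.tsys F).nW w

theorem inN_of_H {a : GL D.Idx F} (ha : a ∈ (hF.tsys F).H) : InN hF a 1 :=
  ⟨a * ((hF.tsys F).nW 1)⁻¹, mul_mem ha (inv_mem (hF.tsys F).nW_one), by group⟩

theorem inN_H {g : GL D.Idx F} (h : InN hF g 1) : g ∈ (hF.tsys F).H := by
  obtain ⟨a, ha, rfl⟩ := h
  exact mul_mem ha (hF.tsys F).nW_one

theorem inN_mul {g g' : GL D.Idx F} {w w' : hF.weyl} (h : InN hF g w) (h' : InN hF g' w') :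
    InN hF (g * g') (w * w') := by
  obtain ⟨a, ha, rfl⟩ := h
  obtain ⟨b, hb, rfl⟩ := h'
  obtain ⟨c, hc, hceq⟩ := hF.nW_mul (F := F) w w'
  refine ⟨a * ((hF.tsys F).nW w * b * ((hF.tsys F).nW w)⁻¹) * c,
    mul_mem (mul_mem ha ((hF.tsys F).nW_H hb)) hc, ?_⟩
  rw [mul_assoc (a * _) c, ← hceq]
  group

theorem inN_unique {g : GL D.Idx F} {w v : hF.weyl} (h : InN hF g w) (h' : InN hF g v) : w = v := by
  obtain ⟨a, ha, rfl⟩ := h
  obtain ⟨b, hb, he⟩ := h'
  exact hF.nW_eq_of_mul ha hb he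

theorem inN_inv {g : GL D.Idx F} {w : hF.weyl} (h : InN hF g w) : InN hF g⁻¹ w⁻¹ := by
  obtain ⟨c, hc, hceq⟩ := hF.nW_mul (F := F) w w⁻¹
  rw [mul_inv_cancel] at hceq
  obtain ⟨a, ha, rfl⟩ := h
  have e : ((hF.tsys F).nW w)⁻¹ = (hF.tsys F).nW w⁻¹ * (c * (hF.tsys F).nW 1)⁻¹ := by
    rw [← hceq]; group
  have hd := inv_mem (mul_mem hc (hF.tsys F).nW_one)
  refine ⟨(hF.tsys F).nW w⁻¹ * ((c * (hF.tsys F).nW 1)⁻¹ * a⁻¹) * ((hF.tsys F).nW w⁻¹)⁻¹,
    (hF.tsys F).nW_H (mul_mem hd (inv_mem ha)), ?_⟩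
  rw [_root_.mul_inv_rev, e]
  group

theorem inN_nS (i : Fin D.rank) : InN hF ((hF.tsys F).nS i) (hF.wS i) := by
  obtain ⟨c, hc, hceq⟩ := (hF.tsys F).nw_eq (ω := [i]) (w := hF.wS i) (RefSystem.pr_singleton _ i)
  rw [TorusSys.nw_singleton] at hceq
  exact ⟨c, hc, hceq⟩

theorem inN_group {g : GL D.Idx F} {w : hF.weyl} (h : InN hF g w) : g ∈ D.group F := by
  obtain ⟨a, ha, rfl⟩ := h
  refine hF.monomial_le_group ?_
  rw [← hF.tsys_N]
  exact mul_mem ((hF.tsys F).H_le_N ha) ((hF.tsys F).nW_mem_N w)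

/-- The torus map is injective. -/
def TorusInj (D : ChevalleyDatum) (F : Type*) [Field F] : Prop :=
  ∀ c : Fin D.rank → Fˣ, torus D F c = 1 → c = 1

include hF in
theorem torusInj_of_cert [Finite F] {d : Fin 0 → ℕ} (K : KerCert (cartanSys D) d) : TorusInj D F := by
  classical
  have h := hF.card_diagonal (F := F) K
  rw [Finset.univ_eq_empty, Finset.prod_empty, one_mul, hF.diagonalSubgroup_eq F] at h
  have h2 : Nat.card (Fin D.rank → Fˣ) = Nat.card (torus D F).range := by
    rw [h, Nat.card_fun, Nat.card_units, Nat.card_fin]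
  have hinj : Function.Injective (torus D F).rangeRestrict :=
    ((Nat.bijective_iff_surjective_and_card _).2 ⟨(torus D F).rangeRestrict_surjective, h2⟩).1
  intro c hc
  refine hinj ?_
  rw [map_one]
  exact Subtype.ext hc

include hF in
theorem exists_torus {a : GL D.Idx F} (ha : a ∈ (hF.tsys F).H) : ∃ c, torus D F c = a := by
  rw [hF.tsys_H, hF.diagonalSubgroup_eq F] at ha
  exact ha

include hF in
theorem torus_mem_H (c : Fin D.rank → Fˣ) : torus D F c ∈ (hF.tsys F).H := by
  rw [hF.tsys_H, hF.diagonalSubgroup_eq F]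
  exact ⟨c, rfl⟩

include hF in
theorem torChar_neg (c : Fin D.rank → Fˣ) {s : ℕ} (hs : s < D.nroots) :
    torChar D c (D.neg s) = (torChar D c s)⁻¹ := by
  rw [torChar, torChar, ← Finset.prod_inv_distrib]
  exact Finset.prod_congr rfl fun i _ => by rw [hF.cartan_neg i i.isLt s hs, _root_.zpow_neg]

/-- Step one: an involution is conjugate to an involution of the monomial group. -/
theorem exists_conj_N [Fintype F] (hq : Odd (Fintype.card F)) (hinj : TorusInj D F) {g : GL D.Idx F}
    (hg : g ∈ D.group F) (hg2 : g * g = 1) :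
    ∃ x ∈ D.group F, ∃ n, ∃ w, InN hF n w ∧ n * n = 1 ∧ x * g * x⁻¹ = n := by
  classical
  set T := hF.tsys F with hT
  have hUB : T.U ≤ T.B := T.U_le_B
  have hBG : T.B ≤ D.group F := by rw [hT, hF.tsys_B]; exact hF.borel_le_group
  obtain ⟨b, hb, w, u', hu', rfl⟩ := hF.mem_bnu hg
  have hu'U : u' ∈ T.U := CommSys.US_mono _
    (fun r hr => Facts.mem_posL.2 ((TorusSys.closed_invList w).mem_pos r hr)) hu'
  obtain ⟨u, hu, a, ha, huba⟩ := T.mem_B.1 (mul_mem (hUB hu'U) hb)
  have hn : InN hF (a * T.nW w) w := ⟨a, ha, rfl⟩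
  set n := a * T.nW w with hndef
  have hs : u' * (b * T.nW w * u') * u'⁻¹ = u * n := by
    rw [hndef, ← mul_assoc u a, ← huba]; group
  have hs2 : u * n * (u * n) = 1 := by
    rw [← hs]
    calc u' * (b * T.nW w * u') * u'⁻¹ * (u' * (b * T.nW w * u') * u'⁻¹)
        = u' * (b * T.nW w * u' * (b * T.nW w * u')) * u'⁻¹ := by group
      _ = 1 := by rw [hg2]; group
  -- the Weyl part is an involution
  obtain ⟨a', ha', hn'⟩ := inN_inv hF hn
  have hw : w = w⁻¹ := by
    refine T.bruhat_eq hF.hsep (b := u * a) (b' := 1) (c := a') (c' := u⁻¹)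
      (mul_mem (hUB hu) (T.H_le_B ha)) (one_mem _) (T.H_le_B ha') (inv_mem (hUB hu)) ?_
    rw [mul_one, ← hn', mul_assoc, ← hndef, ← _root_.mul_inv_rev]
    exact eq_inv_of_mul_eq_one_left hs2
  have hnn : n * n ∈ T.H := by
    refine inN_H hF ?_
    have h2 := inN_mul hF hn hn
    have hw2 : w * w = 1 := by conv_lhs => arg 2; rw [hw]
                               rw [mul_inv_cancel]
    rwa [hw2] at h2
  -- u is inverted
  have hv : n * u * n⁻¹ = u⁻¹ * (n * n)⁻¹ := by
    have h3 : u * (n * u * n⁻¹) * (n * n) = 1 := by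
      rw [← hs2]; group
    calc n * u * n⁻¹ = u⁻¹ * (u * (n * u * n⁻¹) * (n * n)) * (n * n)⁻¹ := by group
      _ = u⁻¹ * (n * n)⁻¹ := by rw [h3, mul_one]
  set M := Fintype.card F ^ (D.nroots / 2) with hM
  have hpow : ∀ y ∈ T.U, y ^ M = 1 := by
    intro y hy
    have hc : Nat.card T.U = M := by
      show Nat.card (T.US (Facts.posL D)) = M
      rw [hT, hF.card_US hF.closedList_posL, hF.length_posL, Nat.card_eq_fintype_card]
    have h1 : (⟨y, hy⟩ : T.U) ^ Nat.card T.U = 1 := pow_card_eq_one'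
    rw [hc] at h1
    exact congrArg Subtype.val h1
  have hmix : ∀ y ∈ T.U, ∀ c ∈ T.H, ∀ m : ℕ, ∃ y' ∈ T.U, (y * c) ^ m = y' * c ^ m := by
    intro y hy c hc m
    induction m with
    | zero => exact ⟨1, one_mem _, by simp⟩
    | succ m ih =>
      obtain ⟨y', hy', he⟩ := ih
      refine ⟨y' * (c ^ m * y * (c ^ m)⁻¹), mul_mem hy' (T.H_conj_US (pow_mem hc m) TorusSys.posL_lt hy), ?_⟩
      rw [pow_succ, he, pow_succ]
      group
  have hnn1 : n * n = 1 := by
    obtain ⟨y', hy', he⟩ := hmix u⁻¹ (inv_mem hu) (n * n)⁻¹ (inv_mem hnn) M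
    rw [← hv, conj_pow, hpow u hu] at he
    simp only [mul_one, mul_inv_cancel] at he
    have hcM : ((n * n)⁻¹) ^ M = 1 := hF.U_inter_H
      (by rw [show ((n * n)⁻¹) ^ M = y'⁻¹ from (inv_eq_of_mul_eq_one_right he.symm).symm]; exact inv_mem hy')
      (pow_mem (inv_mem hnn) M)
    obtain ⟨c, hc⟩ := exists_torus hF (inv_mem hnn)
    rw [← hc, ← map_pow] at hcM
    have hc1 : c ^ M = 1 := hinj _ hcM
    have hc2 : c = 1 := by
      funext i
      have h1 : c i ^ M = 1 := congrFun hc1 i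
      have h2 : c i ^ (Fintype.card F - 1) = 1 := by
        rw [← Fintype.card_units]; exact pow_card_eq_one
      have h3 := pow_gcd_eq_one.2 ⟨h1, h2⟩
      have h4 : Nat.gcd M (Fintype.card F - 1) = 1 := by
        refine Nat.Coprime.pow_left _ ?_
        have h5 : 1 ≤ Fintype.card F := Fintype.card_pos
        refine (Nat.coprime_self_sub_right h5).2 ?_
        exact Nat.coprime_one_right _
      rwa [h4, pow_one] at h3
    rw [hc2, map_one] at hc
    exact inv_eq_one.1 hc.symm
  rw [hnn1, inv_one, mul_one] at hv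
  obtain ⟨o, ho⟩ := (hq.pow : Odd M)
  refine ⟨(u ^ (o + 1))⁻¹ * u', mul_mem (inv_mem (pow_mem (hBG (hUB hu)) _)) (hBG (hUB hu'U)), n, w,
    hn, hnn1, ?_⟩
  have hy2 : u ^ (o + 1) * u ^ (o + 1) = u := by
    rw [← pow_add, show o + 1 + (o + 1) = M + 1 by omega, pow_succ, hpow u hu, one_mul]
  have hny : n * u ^ (o + 1) = (u ^ (o + 1))⁻¹ * n := by
    rw [← mul_inv_eq_iff_eq_mul, ← conj_pow, hv, inv_pow]
  calc (u ^ (o + 1))⁻¹ * u' * (b * T.nW w * u') * ((u ^ (o + 1))⁻¹ * u')⁻¹
      = (u ^ (o + 1))⁻¹ * (u' * (b * T.nW w * u') * u'⁻¹) * u ^ (o + 1) := by group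
    _ = (u ^ (o + 1))⁻¹ * (u ^ (o + 1) * u ^ (o + 1) * n) * u ^ (o + 1) := by rw [hs, hy2]
    _ = u ^ (o + 1) * (n * u ^ (o + 1)) := by group
    _ = n := by rw [hny]; group

section RankOne

/-- Conjugation by the antidiagonal matrix with entries 1 and c. -/
def theta (c : Fˣ) : Matrix.SpecialLinearGroup (Fin 2) F →* Matrix.SpecialLinearGroup (Fin 2) F :=
  MonoidHom.mk' (fun g => ⟨!![g.1 1 1, g.1 1 0 * (c : F)⁻¹; (c : F) * g.1 0 1, g.1 0 0], by
      rw [Matrix.det_fin_two_of]
      have hc := c.ne_zero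
      field_simp
      linear_combination RankOneRel.det_eq g⟩) fun g h => by
    refine Subtype.ext ?_
    ext a b
    show (!![(g * h).1 1 1, (g * h).1 1 0 * (c : F)⁻¹; (c : F) * (g * h).1 0 1, (g * h).1 0 0]) a b =
      ((!![g.1 1 1, g.1 1 0 * (c : F)⁻¹; (c : F) * g.1 0 1, g.1 0 0] : Matrix (Fin 2) (Fin 2) F) *
        !![h.1 1 1, h.1 1 0 * (c : F)⁻¹; (c : F) * h.1 0 1, h.1 0 0]) a b
    have hc := c.ne_zero
    rw [Matrix.mul_apply, Fin.sum_univ_two]
    fin_cases a <;> fin_cases b <;> simp [RankOneRel.entries_mul] <;> field_simp <;> ring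

theorem theta_val (c : Fˣ) (g : Matrix.SpecialLinearGroup (Fin 2) F) :
    (theta c g).1 = !![g.1 1 1, g.1 1 0 * (c : F)⁻¹; (c : F) * g.1 0 1, g.1 0 0] := rfl

theorem rot_of {c : Fˣ} {m z : Matrix.SpecialLinearGroup (Fin 2) F} (h : m = z * theta c m) :
    m * theta c m⁻¹ = z := by
  rw [map_inv, mul_inv_eq_iff_eq_mul]
  exact h

theorem exists_sl {a b c d : F} (h : a * d - b * c = 1) :
    ∃ m : Matrix.SpecialLinearGroup (Fin 2) F, m.1 = !![a, b; c, d] :=
  ⟨⟨!![a, b; c, d], by rw [Matrix.det_fin_two_of]; exact h⟩, rfl⟩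

theorem rot_square {c : Fˣ} {d : F} (hd : (c : F) = d * d) (h2 : (2 : F) ≠ 0) :
    ∃ (m : Matrix.SpecialLinearGroup (Fin 2) F) (z : Matrix.SpecialLinearGroup (Fin 2) F),
      z.1 = !![0, d⁻¹; -d, 0] ∧ m * theta c m⁻¹ = z := by
  have hd0 : d ≠ 0 := fun h => c.ne_zero (by rw [hd, h, mul_zero])
  obtain ⟨m, hm⟩ := exists_sl (a := (2 : F)⁻¹) (b := (2 * d)⁻¹) (c := -d) (d := 1)
    (by field_simp; ring)
  obtain ⟨z, hz⟩ := exists_sl (a := 0) (b := d⁻¹) (c := -d) (d := (0 : F)) (by field_simp; ring)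
  refine ⟨m, z, hz, rot_of (Subtype.ext ?_)⟩
  ext a b
  fin_cases a <;> fin_cases b <;> simp [RankOneRel.entries_mul, theta_val, hm, hz, hd] <;> field_simp <;> ring

theorem rot_neg [Fintype F] (hq : Fintype.card F % 2 = 1) (c : Fˣ) :
    ∃ m z : Matrix.SpecialLinearGroup (Fin 2) F,
      z.1 = !![-1, 0; 0, -1] ∧ m * theta c m⁻¹ = z := by
  classical
  open Polynomial in
  obtain ⟨a, b, hab⟩ := FiniteField.exists_root_sum_quadratic
    (f := -(X : F[X]) ^ 2) (g := Polynomial.C (c : F) * X ^ 2 - 1)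
    (by rw [degree_neg, degree_X_pow]; rfl)
    (by
      rw [sub_eq_add_neg, degree_add_eq_left_of_degree_lt] <;> rw [degree_C_mul c.ne_zero, degree_X_pow]
      · rfl
      · rw [degree_neg, degree_one]; decide) hq
  simp only [Polynomial.eval_neg, Polynomial.eval_pow, Polynomial.eval_X, Polynomial.eval_sub,
    Polynomial.eval_mul, Polynomial.eval_C, Polynomial.eval_one] at hab
  obtain ⟨m, hm⟩ := exists_sl (a := a) (b := b) (c := -((c : F) * b)) (d := -a)
    (by linear_combination hab)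
  obtain ⟨z, hz⟩ := exists_sl (a := -1) (b := (0 : F)) (c := 0) (d := -1) (by ring)
  refine ⟨m, z, hz, rot_of (Subtype.ext ?_)⟩
  ext x y
  have hc := c.ne_zero
  fin_cases x <;> fin_cases y <;> simp [RankOneRel.entries_mul, theta_val, hm, hz] <;> field_simp <;> ring

theorem rot_ant (c : Fˣ) :
    ∃ m z : Matrix.SpecialLinearGroup (Fin 2) F,
      z.1 = !![-(c : F), 0; 0, -(c : F)⁻¹] ∧ m * theta c m⁻¹ = z := by
  have hc := c.ne_zero
  obtain ⟨z, hz⟩ := exists_sl (a := -(c : F)) (b := 0) (c := 0) (d := -(c : F)⁻¹) (by field_simp; ring)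
  refine ⟨antS, z, hz, rot_of (Subtype.ext ?_)⟩
  ext a b
  fin_cases a <;> fin_cases b <;> simp [RankOneRel.entries_mul, theta_val, hz, RankOneRel.antS_val] <;> field_simp

/-- The homomorphism from SL₂ attached to a simple root. -/
noncomputable def phi (i : Fin D.rank) : Matrix.SpecialLinearGroup (Fin 2) F →* GL D.Idx F :=
  (hF.rankOneRel_simple i.val i.isLt).hom

theorem phi_mem (i : Fin D.rank) (g : Matrix.SpecialLinearGroup (Fin 2) F) : phi hF i g ∈ D.group F := by
  have h : (phi (F := F) hF i).range ≤ D.group F := by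
    rw [phi, RankOneRel.hom_range, Subgroup.closure_le]
    rintro x (⟨t, rfl⟩ | ⟨t, rfl⟩)
    exacts [hF.xg_mem_group _ t, hF.xg_mem_group _ t]
  exact h ⟨g, rfl⟩

theorem phi_diag (i : Fin D.rank) {a : F} {z : Matrix.SpecialLinearGroup (Fin 2) F}
    (hz : z.1 = !![a, 0; 0, a⁻¹]) : phi hF i z = hF.hg (D.simple i.val) a := by
  have hR := hF.rankOneRel_simple (F := F) i.val i.isLt
  show RankOneRel.toFun _ _ z = _
  have h10 : z.1 1 0 = 0 := by rw [hz]; simp
  have h00 : z.1 0 0 = a := by rw [hz]; simp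
  have h01 : z.1 0 1 = 0 := by rw [hz]; simp
  rw [RankOneRel.toFun, if_pos h10, h00, h01]
  simp [hR.u_zero, RankOneRel.hh]
  rw [hF.hg_eq, hF.ng_eq, hF.ng_eq]
  rfl

theorem phi_anti (i : Fin D.rank) {d : F} (hd : d ≠ 0) {z : Matrix.SpecialLinearGroup (Fin 2) F}
    (hz : z.1 = !![0, d⁻¹; -d, 0]) : phi hF i z = hF.ng (D.simple i.val) d⁻¹ := by
  have hR := hF.rankOneRel_simple (F := F) i.val i.isLt
  show RankOneRel.toFun _ _ z = _
  rw [RankOneRel.toFun]
  simp [hz, hd, hR.u_zero, inv_neg]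
  rw [hF.ng_eq]
  rfl

theorem conj_phi {n : GL D.Idx F} (hnn : n * n = 1) {i : Fin D.rank} {c : Fˣ}
    (hc : ∀ t, n * hF.xg (D.simple i.val) t * n⁻¹ = hF.xg (D.neg (D.simple i.val)) ((c : F) * t))
    (g : Matrix.SpecialLinearGroup (Fin 2) F) : n * phi hF i g * n⁻¹ = phi hF i (theta c g) := by
  have hn : n⁻¹ = n := inv_eq_of_mul_eq_one_right hnn
  have hR := hF.rankOneRel_simple (F := F) i.val i.isLt
  have hu : ∀ t, n * phi hF i (upS t) * n⁻¹ = phi hF i (theta c (upS t)) := by
    intro t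
    have e : theta c (upS t) = loS ((c : F) * t) := by
      ext a b; fin_cases a <;> fin_cases b <;> simp [theta_val, RankOneRel.upS_val, RankOneRel.loS_val]
    rw [e, phi, hR.hom_up, hR.hom_lo, hc]
  have hl : ∀ t, n * phi hF i (loS t) * n⁻¹ = phi hF i (theta c (loS t)) := by
    intro t
    have e : theta c (loS t) = upS (t * (c : F)⁻¹) := by
      ext a b; fin_cases a <;> fin_cases b <;> simp [theta_val, RankOneRel.upS_val, RankOneRel.loS_val]
    have h := hc (t * (c : F)⁻¹)
    rw [mul_comm t, ← mul_assoc (c : F), mul_inv_cancel₀ c.ne_zero, one_mul, hn] at h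
    rw [e, phi, hR.hom_up, hR.hom_lo, ← h, hn, mul_comm t]
    calc n * (n * hF.xg (D.simple i.val) ((c : F)⁻¹ * t) * n) * n
        = (n * n) * hF.xg (D.simple i.val) ((c : F)⁻¹ * t) * (n * n) := by group
      _ = _ := by rw [hnn, one_mul, mul_one]
  have hall : (MulAut.conj n).toMonoidHom.comp (phi hF i) = (phi hF i).comp (theta c) := by
    refine MonoidHom.eq_of_eqOn_dense (RankOneRel.closure_up_ant (F := F)) ?_
    rintro x (⟨t, rfl⟩ | hx)
    · exact hu t
    · rw [Set.mem_singleton_iff] at hx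
      subst hx
      have e : (antS : Matrix.SpecialLinearGroup (Fin 2) F) = upS 1 * loS (-1) * upS 1 := by
        ext a b; fin_cases a <;> fin_cases b <;>
          simp [RankOneRel.entries_mul, RankOneRel.upS_val, RankOneRel.loS_val, RankOneRel.antS_val]
      rw [e]
      simp only [map_mul]
      exact congr_arg₂ (· * ·) (congr_arg₂ (· * ·) (hu 1) (hl (-1))) (hu 1)
  exact DFunLike.congr_fun hall g

theorem conj_by_phi {n : GL D.Idx F} (hnn : n * n = 1) {i : Fin D.rank} {c : Fˣ}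
    (hc : ∀ t, n * hF.xg (D.simple i.val) t * n⁻¹ = hF.xg (D.neg (D.simple i.val)) ((c : F) * t))
    {m z : Matrix.SpecialLinearGroup (Fin 2) F} (hz : m * theta c m⁻¹ = z) :
    phi hF i m * n * (phi hF i m)⁻¹ = phi hF i z * n := by
  rw [← hz, map_mul, ← conj_phi hF hnn hc, map_inv]
  group

end RankOne

section Descent

/-- The combinatorial facts used by the descent. -/
def okComb (D : ChevalleyDatum) : Bool :=
  ((List.range D.rank).all fun i => (List.range D.rank).all fun j =>
    (i == j) ||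
    (D.cartan i (D.simple j) == 0 && D.cartan j (D.simple i) == 0 &&
      (D.commTerms (D.simple i) (D.simple j)).isEmpty &&
      (D.commTerms (D.neg (D.simple i)) (D.simple j)).isEmpty) ||
    decide (D.cartan i (D.simple j) % 2 = 1) || decide (D.cartan j (D.simple i) % 2 = 1)) &&
  ((List.range D.nroots).all fun s =>
    decide (s < D.nroots / 2) || ((List.range D.rank).any fun i => D.simple i == s) ||
    ((List.range D.rank).any fun k => (List.range D.rank).any fun l =>
      !(k == l) && !(co D s k == 0) && !(co D s l == 0) && !(D.cartan k (D.simple l) == 0)))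

theorem eq_one_of_pos (w : hF.weyl) (h : ∀ i, w • hF.refSys.α i ∈ hF.refSys.P) : w = 1 := by
  obtain ⟨ω, hω, hlen⟩ := hF.refSys.exists_reduced w
  induction ω using List.reverseRecOn with
  | nil => exact hω.symm
  | append_singleton ω j _ =>
    exfalso
    have h1 := hF.refSys.len_mul_s_of_mem (h j)
    have h2 : w * hF.refSys.s j = hF.refSys.pr ω := by
      rw [← hω, RefSystem.pr_append, RefSystem.pr_singleton, mul_assoc, hF.refSys.sq, mul_one]
    have h3 := hF.refSys.len_pr_le ω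
    rw [h2] at h1
    simp only [List.length_append, List.length_singleton] at hlen
    omega

include hF in
theorem pos_of_co {x : Fin D.nroots} {k : ℕ} (hk : k < D.rank) (h : 0 < co D x.val k) :
    x ∈ hF.refSys.P := by
  by_contra hc
  have h2 : D.nroots / 2 ≤ D.neg x.val := by
    have := (hF.refSys.neg_mem x).2 hc
    simpa [Facts.refSys] using this
  have h3 := hF.co_nonneg (hF.neg_lt x.isLt) h2 k
  rw [hF.co_neg x.val x.isLt k hk] at h3
  omega

theorem co_pr {L : List (Fin D.rank)} {k : ℕ} (hk : k < D.rank) (hkL : ∀ j ∈ L, j.val ≠ k)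
    (x : Fin D.nroots) : co D (hF.refSys.pr L • x : Fin D.nroots).val k = co D x.val k := by
  induction L with
  | nil => simp
  | cons i L ih =>
    rw [RefSystem.pr_cons, mul_smul]
    show co D (hF.wS i • _ : Fin D.nroots).val k = _
    rw [Facts.wS_smul, hF.co_refl i.val i.isLt _ (Fin.isLt _) k hk,
      if_neg (fun he => hkL i (by simp) he.symm), sub_zero, ih fun j hj => hkL j (List.mem_cons_of_mem _ hj)]

include hF in
theorem refl_fix {i s : ℕ} (hi : i < D.rank) (hs : s < D.nroots) (h : D.cartan i s = 0) :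
    D.reflectRoot i s = s :=
  hF.psi_inj (hF.refl_lt i hi s hs) hs fun k hk => by
    rw [hF.cartan_refl i hi s hs k hk, h, zero_mul, sub_zero]

theorem pr_fix {L : List (Fin D.rank)} {x : Fin D.nroots}
    (h : ∀ j ∈ L, D.cartan j.val x.val = 0) : hF.refSys.pr L • x = x := by
  induction L with
  | nil => simp
  | cons i L ih =>
    rw [RefSystem.pr_cons, mul_smul, ih fun j hj => h j (List.mem_cons_of_mem _ hj)]
    exact Fin.ext ((Facts.wS_smul hF i x).trans (refl_fix hF i.isLt x.isLt (h i (by simp))))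

/-- Pairwise orthogonal fundamental roots. -/
def Orth (D : ChevalleyDatum) (L : List (Fin D.rank)) : Prop :=
  ∀ i ∈ L, ∀ j ∈ L, i ≠ j → D.cartan i.val (D.simple j.val) = 0 ∧ D.cartan j.val (D.simple i.val) = 0 ∧
    D.commTerms (D.simple i.val) (D.simple j.val) = [] ∧
    D.commTerms (D.neg (D.simple i.val)) (D.simple j.val) = []

theorem pr_orth_neg {L : List (Fin D.rank)} (hL : Orth D L) (hnd : L.Nodup) {j : Fin D.rank}
    (hj : j ∈ L) : hF.refSys.pr L • hF.refSys.α j = hF.refSys.neg (hF.refSys.α j) := by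
  induction L with
  | nil => simp at hj
  | cons i L ih =>
    obtain ⟨hiL, hndL⟩ := List.nodup_cons.1 hnd
    rw [RefSystem.pr_cons, mul_smul]
    by_cases hij : j = i
    · subst hij
      rw [pr_fix hF fun l hl => (hL l (List.mem_cons_of_mem _ hl) j (by simp)
        (fun e => hiL (e ▸ hl))).1, hF.refSys.s_α]
    · have hjL : j ∈ L := (List.mem_cons.1 hj).resolve_left hij
      rw [ih (fun a ha b hb => hL a (List.mem_cons_of_mem _ ha) b (List.mem_cons_of_mem _ hb)) hndL hjL,
        hF.refSys.s_neg]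
      congr 1
      exact Fin.ext ((Facts.wS_smul hF i _).trans
        (refl_fix hF i.isLt (Fin.isLt _) (hL i (by simp) j hj (fun e => hij e.symm)).1))

theorem x_comm_of_empty {r s : ℕ} (hr : r < D.nroots) (hs : s < D.nroots) (h1 : s ≠ r)
    (h2 : s ≠ D.neg r) (h : D.commTerms r s = []) (t u : F) :
    hF.xg s u * hF.xg r t = hF.xg r t * hF.xg s u := by
  have h3 := (hF.tsys F).x_comm r s hr hs h1 h2 t u
  simp only [ChevalleyDatum.commWord, h, List.map_nil, List.prod_nil, mul_one] at h3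
  exact h3

theorem nS_comm_x {i j : Fin D.rank} (hij : i ≠ j) (h : Orth D [i, j]) (t : F) :
    Commute ((hF.tsys F).nS i) (hF.xg (D.simple j.val) t) := by
  obtain ⟨h1, -, h3, h4⟩ := h i (by simp) j (by simp) hij
  have hi := hF.simple_lt i.val i.isLt
  have hj := hF.simple_lt j.val j.isLt
  have hne : D.simple j.val ≠ D.simple i.val := by
    intro e
    rw [e, hF.cartan_simple i.val i.isLt] at h1
    omega
  have hne' : D.simple j.val ≠ D.neg (D.simple i.val) := by
    intro e
    rw [e, hF.cartan_neg i.val i.isLt _ hi, hF.cartan_simple i.val i.isLt] at h1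
    omega
  have ha : ∀ u, Commute (hF.xg (F := F) (D.simple i.val) u) (hF.xg (D.simple j.val) t) := fun u =>
    (x_comm_of_empty hF hi hj hne hne' h3 u t).symm
  have hb : ∀ u, Commute (hF.xg (F := F) (D.neg (D.simple i.val)) u) (hF.xg (D.simple j.val) t) := fun u =>
    (x_comm_of_empty hF (hF.neg_lt hi) hj hne' (by rwa [hF.neg_neg hi]) h4 u t).symm
  rw [hF.tsys_nS, hF.ng_eq]
  exact ((ha _).mul_left (hb _)).mul_left (ha _)

theorem nS_comm {i j : Fin D.rank} (hij : i ≠ j) (h : Orth D [i, j]) :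
    Commute ((hF.tsys F).nS i) ((hF.tsys F).nS j) := by
  obtain ⟨h1, -, -, -⟩ := h i (by simp) j (by simp) hij
  have hj := hF.simple_lt j.val j.isLt
  have hfix := refl_fix hF i.isLt hj h1
  have hx := (hF.tsys F).nS_conj i hj (1 : F)
  rw [hF.tsys_x, hF.tsys_x, hfix, (nS_comm_x hF hij h 1).eq, mul_inv_cancel_right, mul_one] at hx
  have hsig : hF.sgn F i.val (D.simple j.val) = 1 := by
    by_contra hne
    rcases hF.eta_sign i.val i.isLt _ hj with he | he
    · exact hne (by simp [Facts.sgn, he])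
    · have hsg : hF.sgn F i.val (D.simple j.val) = -1 := by simp [Facts.sgn, he]
      rw [hsg] at hx
      have h2 : hF.xg (D.simple j.val) (1 - (-1 : F)) = 1 := by
        rw [sub_eq_add_neg, hF.xg_add, hF.xg_neg, ← hx, mul_inv_cancel]
      have h3 := congrArg Units.val h2
      rw [Facts.coe_xg, Units.val_one, hF.x_eq_one _ hj] at h3
      exact hne (by rw [hsg]; linear_combination -h3)
  have h5 := (hF.tsys F).nS_conj_n i hj (1 : F)
  rw [hfix, hsig, one_mul] at h5
  exact mul_inv_eq_iff_eq_mul.1 h5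

theorem orth_sub {L L' : List (Fin D.rank)} (h : Orth D L) (hsub : ∀ i ∈ L', i ∈ L) : Orth D L' :=
  fun i hi j hj => h i (hsub i hi) j (hsub j hj)

theorem nw_comm {L : List (Fin D.rank)} {j : Fin D.rank} (hj : j ∉ L) (h : Orth D (j :: L)) :
    (∀ t, Commute ((hF.tsys F).nw L) (hF.xg (D.simple j.val) t)) ∧
      Commute ((hF.tsys F).nS j) ((hF.tsys F).nw L) := by
  induction L with
  | nil =>
    refine ⟨fun t => ?_, ?_⟩ <;> rw [TorusSys.nw_nil]
    exacts [Commute.one_left _, Commute.one_right _]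
  | cons i L ih =>
    have hji : j ≠ i := fun e => hj (by simp [e])
    obtain ⟨ih1, ih2⟩ := ih (fun hm => hj (List.mem_cons_of_mem _ hm))
      (orth_sub h fun a ha => by simp only [List.mem_cons] at ha ⊢; tauto)
    have h1 : Orth D [i, j] := orth_sub h fun a ha => by
      simp only [List.mem_cons, List.not_mem_nil, or_false] at ha ⊢; tauto
    refine ⟨fun t => ?_, ?_⟩ <;> rw [TorusSys.nw_cons]
    · exact (nS_comm_x hF hji.symm h1 t).mul_left (ih1 t)
    · exact ((nS_comm hF hji.symm h1).symm).mul_right ih2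

/-- Torus coordinates after conjugation by n_i. -/
def reflT (i : Fin D.rank) (c : Fin D.rank → Fˣ) : Fin D.rank → Fˣ :=
  c * Pi.mulSingle i (torChar D c (D.simple i.val))⁻¹

theorem nS_torus (i : Fin D.rank) (c : Fin D.rank → Fˣ) :
    (hF.tsys F).nS i * torus D F c * ((hF.tsys F).nS i)⁻¹ = torus D F (reflT i c) := by
  rw [mul_inv_eq_iff_eq_mul, hF.tsys_nS]
  ext1
  rw [Units.val_mul, Units.val_mul, Facts.coe_ng, coe_torus, coe_torus,
    hF.nMat_mul_diagM i.val i.isLt]
  congr 1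
  refine Facts.diagM_congr fun s hs => ?_
  congr 1
  have hsplit : ∏ m, (Pi.mulSingle i (torChar D c (D.simple i.val))⁻¹ : Fin D.rank → Fˣ) m ^ D.cartan m.val s
      = ((torChar D c (D.simple i.val))⁻¹) ^ D.cartan i.val s := by
    rw [Finset.prod_eq_single i]
    · rw [Pi.mulSingle_eq_same]
    · intro b _ hb; rw [Pi.mulSingle_eq_of_ne hb, _root_.one_zpow]
    · intro h; exact absurd (Finset.mem_univ i) h
  show torChar D c (D.reflectRoot i.val s) = torChar D (reflT i c) s
  conv_rhs => rw [torChar]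
  simp only [reflT, Pi.mul_apply, _root_.mul_zpow, Finset.prod_mul_distrib]
  rw [hsplit]
  simp only [torChar]
  rw [← Finset.prod_inv_distrib, ← Finset.prod_zpow, ← Finset.prod_mul_distrib]
  refine Finset.prod_congr rfl fun m _ => ?_
  rw [hF.cartan_refl i.val i.isLt s hs m.val m.isLt, sub_eq_add_neg, _root_.zpow_add,
    ← _root_.zpow_neg, ← _root_.zpow_mul]
  ring_nf

theorem nw_torus (L : List (Fin D.rank)) (c : Fin D.rank → Fˣ) :
    ∃ c', (hF.tsys F).nw L * torus D F c * ((hF.tsys F).nw L)⁻¹ = torus D F c' ∧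
      ∀ k, k ∉ L → c' k = c k := by
  induction L with
  | nil => exact ⟨c, by simp [TorusSys.nw_nil], fun k _ => rfl⟩
  | cons i L ih =>
    obtain ⟨c', he, hc'⟩ := ih
    refine ⟨reflT i c', ?_, fun k hk => ?_⟩
    · rw [TorusSys.nw_cons, ← nS_torus hF, ← he]
      group
    · simp only [List.mem_cons, not_or] at hk
      simp [reflT, Pi.mulSingle_eq_of_ne hk.1, hc' k hk.2]

theorem nS_sq_torus (i : Fin D.rank) :
    (hF.tsys F).nS i * (hF.tsys F).nS i = torus D F (Pi.mulSingle i (-1)) := by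
  rw [TorusSys.nS_sq, hF.tsys_h, show (-1 : F) = ((-1 : Fˣ) : F) by simp,
    ← hF.torus_single, ← map_inv, ← Pi.mulSingle_inv, inv_neg, inv_one]

theorem nw_sq {L : List (Fin D.rank)} (hL : Orth D L) (hnd : L.Nodup) :
    ∃ e, (hF.tsys F).nw L * (hF.tsys F).nw L = torus D F e ∧ ∀ k, k ∉ L → e k = 1 := by
  induction L with
  | nil => exact ⟨1, by simp [TorusSys.nw_nil], fun k _ => rfl⟩
  | cons i L ih =>
    obtain ⟨hiL, hndL⟩ := List.nodup_cons.1 hnd
    obtain ⟨e, he, hek⟩ := ih (orth_sub hL fun a ha => List.mem_cons_of_mem _ ha) hndL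
    refine ⟨Pi.mulSingle i (-1) * e, ?_, fun k hk => ?_⟩
    · rw [TorusSys.nw_cons, map_mul, ← nS_sq_torus hF, ← he]
      have h2 := (nw_comm (F := F) hF hiL hL).2.symm.eq
      calc _ = (hF.tsys F).nS i * ((hF.tsys F).nw L * (hF.tsys F).nS i) * (hF.tsys F).nw L := by group
        _ = _ := by rw [h2]; group
    · simp only [List.mem_cons, not_or] at hk
      simp [Pi.mulSingle_eq_of_ne hk.1, hek k hk.2]

variable [Fintype F]

theorem isSquare_mul {a b : F} (hq : Fintype.card F % 2 = 1) (ha : ¬ IsSquare a) (hb : ¬ IsSquare b) :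
    IsSquare (a * b) := by
  have hr : ringChar F ≠ 2 := by
    intro h
    rw [FiniteField.even_card_iff_char_two.1 h] at hq
    omega
  have ha0 : a ≠ 0 := fun h => ha (h ▸ ⟨0, (zero_mul 0).symm⟩)
  have hb0 : b ≠ 0 := fun h => hb (h ▸ ⟨0, (zero_mul 0).symm⟩)
  rw [FiniteField.isSquare_iff hr ha0] at ha
  rw [FiniteField.isSquare_iff hr hb0] at hb
  rw [FiniteField.isSquare_iff hr (mul_ne_zero ha0 hb0), mul_pow,
    (FiniteField.pow_dichotomy hr ha0).resolve_left ha, (FiniteField.pow_dichotomy hr hb0).resolve_left hb]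
  ring

include hF in
/-- Every involution of the monomial group is conjugate to a diagonal element. -/
theorem conj_H (hq : Fintype.card F % 2 = 1) (hinj : TorusInj D F) (hok : okComb D = true) :
    ∀ (k : ℕ) (w : hF.weyl), hF.refSys.len w = k → ∀ n : GL D.Idx F, InN hF n w → n * n = 1 →
      ∃ x ∈ D.group F, x * n * x⁻¹ ∈ (hF.tsys F).H := by
  classical
  intro k
  induction k using Nat.strong_induction_on with
  | _ k ih =>
  intro w hlen n hn hnn
  have hninv : n⁻¹ = n := inv_eq_of_mul_eq_one_right hnn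
  have hw2 : w * w = 1 := inN_unique hF (inN_mul hF hn hn) (by rw [hnn]; exact inN_of_H hF (one_mem _))
  have hwinv : w⁻¹ = w := inv_eq_of_mul_eq_one_right hw2
  by_cases hw1 : w = 1
  · subst hw1
    exact ⟨1, one_mem _, by simpa using inN_H hF hn⟩
  have hconj : ∀ x ∈ D.group F, ∀ n' w', x * n * x⁻¹ = n' → InN hF n' w' → hF.refSys.len w' < k →
      ∃ y ∈ D.group F, y * n * y⁻¹ ∈ (hF.tsys F).H := by
    intro x hx n' w' he hn' hlt
    have h2 : n' * n' = 1 := by
      rw [← he]
      calc x * n * x⁻¹ * (x * n * x⁻¹) = x * (n * n) * x⁻¹ := by group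
        _ = 1 := by rw [hnn]; group
    obtain ⟨y, hy, hy2⟩ := ih _ hlt w' rfl n' hn' h2
    refine ⟨y * x, mul_mem hy hx, ?_⟩
    rw [← he] at hy2
    convert hy2 using 1
    group
  -- descents that are not negated
  by_cases hA : ∃ i, w • hF.refSys.α i ∉ hF.refSys.P ∧ w • hF.refSys.α i ≠ hF.refSys.neg (hF.refSys.α i)
  · obtain ⟨i, hi, hne⟩ := hA
    refine hconj ((hF.tsys F).nS i) (inN_group hF (inN_nS hF i)) _ (hF.wS i * w * (hF.wS i)⁻¹) rfl
      (inN_mul hF (inN_mul hF (inN_nS hF i) hn) (inN_inv hF (inN_nS hF i))) ?_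
    have h1 := hF.refSys.len_mul_s_of_not_mem hi
    have hflip : hF.refSys.len (hF.wS i * w) = hF.refSys.len (w * hF.refSys.s i) := by
      rw [← hF.len_inv, _root_.mul_inv_rev, hwinv, inv_eq_of_mul_eq_one_right (hF.wS_sq i)]
      rfl
    have hv : (hF.wS i * w) • hF.refSys.α i ∉ hF.refSys.P := by
      rw [mul_smul]
      intro hp
      have hy : hF.refSys.neg (w • hF.refSys.α i) ∈ hF.refSys.P := (hF.refSys.neg_mem _).2 hi
      have hyne : hF.refSys.neg (w • hF.refSys.α i) ≠ hF.refSys.α i := fun e =>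
        hne (((hF.refSys.neg_neg (w • hF.refSys.α i)).symm).trans (congrArg hF.refSys.neg e))
      have := hF.refSys.perm i _ hy hyne
      rw [hF.refSys.s_neg, hF.refSys.neg_mem] at this
      exact this hp
    have h2 := hF.refSys.len_mul_s_of_not_mem hv
    rw [show (hF.wS i)⁻¹ = hF.refSys.s i from inv_eq_of_mul_eq_one_right (hF.wS_sq i)]
    rw [hflip] at h2
    omega
  simp only [not_exists, not_and, not_not] at hA
  have hscal : ∀ j, w • hF.refSys.α j ∉ hF.refSys.P → ∀ m, InN hF m w → ∃ c : Fˣ,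
      ∀ t, m * hF.xg (D.simple j.val) t * m⁻¹ = hF.xg (D.neg (D.simple j.val)) ((c : F) * t) := by
    intro j hj m hm
    obtain ⟨a, ha, rfl⟩ := hm
    obtain ⟨e, he2, he⟩ := hF.nW_conj (F := F) w (hF.refSys.α j)
    obtain ⟨c, rfl⟩ := exists_torus hF ha
    refine ⟨torChar D c (D.neg (D.simple j.val)) * Units.mk0 e (left_ne_zero_of_mul_eq_one he2), fun t => ?_⟩
    have h := he t
    rw [hA j hj] at h
    change _ = hF.xg (D.neg (D.simple j.val)) (e * t) at h
    change (hF.tsys F).nW w * hF.xg (D.simple j.val) t * _ = _ at h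
    calc torus D F c * (hF.tsys F).nW w * hF.xg (D.simple j.val) t * (torus D F c * (hF.tsys F).nW w)⁻¹
        = torus D F c * ((hF.tsys F).nW w * hF.xg (D.simple j.val) t * ((hF.tsys F).nW w)⁻¹) *
            (torus D F c)⁻¹ := by group
      _ = _ := by
        rw [h, hF.torus_conj c (hF.neg_lt (hF.simple_lt j.val j.isLt)), Units.val_mul, Units.val_mk0, mul_assoc]
  -- a square shortens
  have hshort : ∀ j, w • hF.refSys.α j ∉ hF.refSys.P → ∀ x ∈ D.group F, ∀ m, x * n * x⁻¹ = m →
      InN hF m w → ∀ c : Fˣ,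
      (∀ t, m * hF.xg (D.simple j.val) t * m⁻¹ = hF.xg (D.neg (D.simple j.val)) ((c : F) * t)) →
      IsSquare (c : F) → ∃ y ∈ D.group F, y * n * y⁻¹ ∈ (hF.tsys F).H := by
    intro j hj x hx m hxm hm c hc ⟨d, hd⟩
    have hd0 : d ≠ 0 := fun h => c.ne_zero (by rw [hd, h, mul_zero])
    have h2 : (2 : F) ≠ 0 := by
      intro h
      have hr : ringChar F = 2 := by
        have : (ringChar F) ∣ 2 := ringChar.dvd (by exact_mod_cast h)
        have := CharP.ringChar_ne_one (R := F)
        rcases (Nat.dvd_prime Nat.prime_two).1 ‹ringChar F ∣ 2› with h' | h'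
        · exact absurd h' this
        · exact h'
      rw [FiniteField.even_card_iff_char_two.1 hr] at hq
      omega
    have hmm : m * m = 1 := by
      rw [← hxm]
      calc x * n * x⁻¹ * (x * n * x⁻¹) = x * (n * n) * x⁻¹ := by group
        _ = 1 := by rw [hnn]; group
    obtain ⟨r, z, hz, hrz⟩ := rot_square hd h2
    have hng : InN hF (hF.ng (D.simple j.val) d⁻¹) (hF.wS j) := by
      have h3 : hF.ng (D.simple j.val) d⁻¹ = (hF.tsys F).h (D.simple j.val) d⁻¹ * (hF.tsys F).nS j := by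
        rw [← hF.tsys_n, TorusSys.n_eq_h_mul]; rfl
      rw [h3, ← one_mul (hF.wS j)]
      exact inN_mul hF (inN_of_H hF ((hF.tsys F).h_mem (hF.simple_lt j.val j.isLt) (inv_ne_zero hd0)))
        (inN_nS hF j)
    refine hconj (phi hF j r * x) (mul_mem (phi_mem hF j r) hx) _ (hF.wS j * w) ?_
      (inN_mul hF hng hm) ?_
    · rw [← phi_anti hF j hd0 hz, ← conj_by_phi hF hmm hc hrz, ← hxm]
      group
    · have h1 := hF.refSys.len_mul_s_of_not_mem hj
      rw [← hF.len_inv, _root_.mul_inv_rev, hwinv, inv_eq_of_mul_eq_one_right (hF.wS_sq j)]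
      change hF.refSys.len (w * hF.refSys.s j) < k
      omega
  simp only [okComb, Bool.and_eq_true, List.all_eq_true, List.mem_range, Bool.or_eq_true,
    decide_eq_true_eq, beq_iff_eq, List.any_eq_true, List.isEmpty_iff, Bool.not_eq_true',
    beq_eq_false_iff_ne] at hok
  obtain ⟨hok1, hok2⟩ := hok
  by_cases hB : ∃ i j, w • hF.refSys.α i ∉ hF.refSys.P ∧ w • hF.refSys.α j ∉ hF.refSys.P ∧ i ≠ j ∧
      D.cartan i.val (D.simple j.val) % 2 = 1
  · obtain ⟨i, j, hi, hj, -, hodd⟩ := hB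
    obtain ⟨ci, hci⟩ := hscal i hi n hn
    obtain ⟨cj, hcj⟩ := hscal j hj n hn
    by_cases hsi : IsSquare (ci : F)
    · exact hshort i hi 1 (one_mem _) n (by group) hn ci hci hsi
    by_cases hsj : IsSquare (cj : F)
    · exact hshort j hj 1 (one_mem _) n (by group) hn cj hcj hsj
    -- a nonsquare flip
    obtain ⟨r, u, hu, hru⟩ : ∃ (r : Matrix.SpecialLinearGroup (Fin 2) F) (u : Fˣ), ¬ IsSquare (u : F) ∧
        phi hF i r * n * (phi hF i r)⁻¹ = hF.hg (D.simple i.val) (u : F) * n := by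
      by_cases hm1 : IsSquare (-1 : F)
      · obtain ⟨r, z, hz, hrz⟩ := rot_ant ci
        refine ⟨r, -ci, fun h => hsi ?_, ?_⟩
        · have := h.mul hm1
          simpa using this
        · rw [conj_by_phi hF hnn hci hrz, phi_diag hF i (a := -(ci : F)) (by rw [hz, inv_neg])]
          simp
      · obtain ⟨r, z, hz, hrz⟩ := rot_neg hq ci
        refine ⟨r, -1, by simpa using hm1, ?_⟩
        rw [conj_by_phi hF hnn hci hrz, phi_diag hF i (a := (-1 : F)) (by rw [hz, inv_neg, inv_one])]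
        simp
    have hm : InN hF (hF.hg (D.simple i.val) (u : F) * n) w := by
      rw [← one_mul w]
      refine inN_mul hF (inN_of_H hF ?_) hn
      rw [hF.hg_eq_torus (hF.simple_lt i.val i.isLt)]
      exact torus_mem_H hF _
    set kk := D.cartan i.val (D.simple j.val) with hkk
    refine hshort j hj (phi hF i r) (phi_mem hF i r) _ hru hm (u ^ (-kk) * cj) (fun t => ?_) ?_
    · calc hF.hg (D.simple i.val) (u : F) * n * hF.xg (D.simple j.val) t * (hF.hg (D.simple i.val) (u : F) * n)⁻¹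
          = hF.hg (D.simple i.val) (u : F) * (n * hF.xg (D.simple j.val) t * n⁻¹) *
              (hF.hg (D.simple i.val) (u : F))⁻¹ := by group
        _ = _ := by
          rw [hcj, hF.hg_eq_torus (hF.simple_lt i.val i.isLt),
            hF.torus_conj _ (hF.neg_lt (hF.simple_lt j.val j.isLt)), hF.torChar_simple i.isLt,
            hF.cartan_neg i.val i.isLt _ (hF.simple_lt j.val j.isLt), Units.val_mul, mul_assoc]
    · obtain ⟨e, he⟩ : ∃ e, -kk = 2 * e + 1 := ⟨(-kk - 1) / 2, by omega⟩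
      rw [he, _root_.zpow_add, _root_.zpow_one, two_mul, _root_.zpow_add, Units.val_mul, Units.val_mul,
        Units.val_mul, mul_assoc]
      exact IsSquare.mul ⟨_, rfl⟩ (isSquare_mul hq hu hsj)
  simp only [not_exists, not_and] at hB
  -- orthogonal negated roots
  set L : List (Fin D.rank) := (List.finRange D.rank).filter fun i => decide (w • hF.refSys.α i ∉ hF.refSys.P)
    with hLdef
  have hLm : ∀ i, i ∈ L ↔ w • hF.refSys.α i ∉ hF.refSys.P := fun i => by
    simp [hLdef]
  have hndL : L.Nodup := (List.nodup_finRange _).filter _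
  have horth : Orth D L := by
    intro i hi j hj hij
    rcases hok1 i.val i.isLt j.val j.isLt with ((h | ⟨⟨⟨h1, h2⟩, h3⟩, h4⟩) | h) | h
    · exact absurd (Fin.ext h) hij
    · exact ⟨h1, h2, h3, h4⟩
    · exact absurd h (hB i j ((hLm i).1 hi) ((hLm j).1 hj) hij)
    · exact absurd h (hB j i ((hLm j).1 hj) ((hLm i).1 hi) (Ne.symm hij))
  have hLne : L ≠ [] := by
    intro h
    refine hw1 (eq_one_of_pos hF w fun i => ?_)
    by_contra hc
    have := (hLm i).2 hc
    rw [h] at this
    simp at this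
  have hwL : hF.refSys.pr L * w = 1 := by
    refine eq_one_of_pos hF _ fun m => ?_
    rw [mul_smul]
    by_cases hm : m ∈ L
    · rw [hA m ((hLm m).1 hm), RefSystem.smul_neg, pr_orth_neg hF horth hndL hm, hF.refSys.neg_neg]
      exact hF.refSys.α_mem m
    · have hx : w • hF.refSys.α m ∈ hF.refSys.P := by
        by_contra hc
        exact hm ((hLm m).2 hc)
      set x := w • hF.refSys.α m with hxdef
      have hxp : D.nroots / 2 ≤ x.val := by simpa [Facts.refSys] using hx
      have key : ∀ j : Fin D.rank, j ∈ L → x.val ≠ D.simple j.val := by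
        intro j hj he
        have hxj : x = hF.refSys.α j := Fin.ext he
        have h2 := (hLm j).1 hj
        rw [← hxj, hxdef, ← mul_smul, hw2, one_smul] at h2
        exact h2 (hF.refSys.α_mem m)
      obtain ⟨l, hlL, hl⟩ : ∃ l : Fin D.rank, l ∉ L ∧ co D x.val l.val ≠ 0 := by
        rcases hok2 x.val x.isLt with (h | ⟨l, hl, he⟩) | ⟨a, ha, b, hb, ⟨⟨hab, hca⟩, hcb⟩, hcar⟩
        · omega
        · refine ⟨⟨l, hl⟩, fun hin => key _ hin he.symm, ?_⟩
          rw [← he, hF.co_simple l hl l hl, if_pos rfl]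
          norm_num
        · by_cases haL : (⟨a, ha⟩ : Fin D.rank) ∈ L
          · by_cases hbL : (⟨b, hb⟩ : Fin D.rank) ∈ L
            · exact absurd (horth _ haL _ hbL (fun e => hab (congrArg Fin.val e))).1 hcar
            · exact ⟨_, hbL, hcb⟩
          · exact ⟨_, haL, hca⟩
      refine pos_of_co hF l.isLt ?_
      rw [co_pr hF l.isLt fun j hj e => hlL (Fin.ext e ▸ hj)]
      have := hF.co_nonneg x.isLt hxp l.val
      omega
  have hwrev : w = hF.refSys.pr L.reverse := by
    rw [RefSystem.pr_reverse]; exact eq_inv_of_mul_eq_one_right hwL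
  obtain ⟨j, L', hrev⟩ : ∃ j L', L.reverse = j :: L' := List.exists_cons_of_ne_nil (by simpa using hLne)
  have horth' : Orth D (j :: L') := orth_sub horth fun a ha => by
    rw [← hrev, List.mem_reverse] at ha; exact ha
  obtain ⟨hjL', hndL'⟩ := List.nodup_cons.1 (hrev ▸ List.nodup_reverse.2 hndL)
  have hjneg : w • hF.refSys.α j ∉ hF.refSys.P := (hLm j).1 (by rw [← List.mem_reverse, hrev]; simp)
  obtain ⟨c0, hc0, hnw⟩ := (hF.tsys F).nw_eq (ω := j :: L') (w := w) (by rw [← hrev, ← hwrev])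
  obtain ⟨a, ha, hna⟩ := hn
  obtain ⟨t, ht⟩ := exists_torus hF (mul_mem ha (inv_mem hc0))
  have hneq : n = torus D F t * ((hF.tsys F).nS j * (hF.tsys F).nw L') := by
    rw [ht, ← TorusSys.nw_cons, hnw, hna]
    group
  obtain ⟨hcomx, hcomn⟩ := nw_comm (F := F) hF hjL' horth'
  have hsj := hF.simple_lt j.val j.isLt
  refine hshort j hjneg 1 (one_mem _) n (by group) ⟨a, ha, hna⟩
    (-(torChar D t (D.simple j.val))⁻¹) (fun s => ?_) ?_
  · have h1 := (hF.tsys F).nS_conj j hsj s
    rw [hF.tsys_x, hF.tsys_x, Facts.refl_simple] at h1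
    calc n * hF.xg (D.simple j.val) s * n⁻¹
        = torus D F t * ((hF.tsys F).nS j * ((hF.tsys F).nw L' * hF.xg (D.simple j.val) s * ((hF.tsys F).nw L')⁻¹) * ((hF.tsys F).nS j)⁻¹) *
            (torus D F t)⁻¹ := by rw [hneq]; group
      _ = torus D F t * ((hF.tsys F).nS j * hF.xg (D.simple j.val) s * ((hF.tsys F).nS j)⁻¹) * (torus D F t)⁻¹ := by
            rw [(hcomx s).eq, mul_inv_cancel_right]
      _ = _ := by
            rw [h1, hF.torus_conj t (hF.neg_lt hsj), torChar_neg hF t hsj]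
            congr 1
            simp [Facts.sgn, hF.eta_simple j.val j.isLt]
  · obtain ⟨t', ht', ht'k⟩ := nw_torus hF L' t
    obtain ⟨e, he, hek⟩ := nw_sq (F := F) hF (orth_sub horth' fun x hx => List.mem_cons_of_mem _ hx) hndL'
    have h2 : n * n = torus D F (t * reflT j t' * Pi.mulSingle j (-1) * e) := by
      rw [map_mul, map_mul, map_mul, ← nS_torus hF, ← ht', ← nS_sq_torus hF, ← he, hneq]
      calc torus D F t * ((hF.tsys F).nS j * (hF.tsys F).nw L') * (torus D F t * ((hF.tsys F).nS j * (hF.tsys F).nw L'))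
          = torus D F t * ((hF.tsys F).nS j * ((hF.tsys F).nw L' * torus D F t * ((hF.tsys F).nw L')⁻¹) * ((hF.tsys F).nS j)⁻¹) *
              ((hF.tsys F).nS j * ((hF.tsys F).nw L' * (hF.tsys F).nS j) * (hF.tsys F).nw L') := by group
        _ = _ := by rw [hcomn.symm.eq]; group
    have h3 := hinj _ (h2.symm.trans hnn)
    have h4 := congrFun h3 j
    simp only [Pi.mul_apply, reflT, Pi.mulSingle_eq_same, hek j hjL', ht'k j hjL', mul_one,
      Pi.one_apply] at h4
    have h5 : torChar D t' (D.simple j.val) = torChar D t (D.simple j.val) := by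
      rw [torChar, torChar]
      refine Finset.prod_congr rfl fun m _ => ?_
      by_cases hm : m ∈ L'
      · rw [(horth' m (List.mem_cons_of_mem _ hm) j (by simp) (fun e => hjL' (e ▸ hm))).1,
          _root_.zpow_zero, _root_.zpow_zero]
      · rw [ht'k m hm]
    rw [h5] at h4
    have h6 := congrArg Units.val h4
    simp only [Units.val_mul, Units.val_neg, Units.val_one, mul_neg, mul_one] at h6
    refine ⟨(t j : F)⁻¹, ?_⟩
    have h7 := (t j).ne_zero
    rw [Units.val_neg, ← sub_eq_zero]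
    field_simp
    linear_combination h6

include hF in
/-- Every involution of the group is conjugate to a diagonal element. -/
theorem exists_conj_diag (hq : Odd (Fintype.card F)) (hinj : TorusInj D F) (hok : okComb D = true)
    {g : GL D.Idx F} (hg : g ∈ D.group F) (hg2 : g * g = 1) :
    ∃ x ∈ D.group F, x * g * x⁻¹ ∈ D.diagonalSubgroup F := by
  obtain ⟨x, hx, n, w, hn, hnn, he⟩ := exists_conj_N hF hq hinj hg hg2
  obtain ⟨y, hy, hy2⟩ := conj_H hF (Nat.odd_iff.1 hq) hinj hok _ w rfl n hn hnn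
  refine ⟨y * x, mul_mem hy hx, ?_⟩
  rw [← hF.tsys_H]
  rw [← he] at hy2
  convert hy2 using 1
  group

end Descent

end Cfsg.Agent.Small.ChevInvol
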