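import Cfsg.Agent.Lib.Small.ChevInvol.Orbit

/-!
The centralizer of a torus element in a Chevalley group, from the Bruhat normal form.
-/

set_option autoImplicit false

namespace Cfsg.Agent.Small.ChevInvol

open Cfsg.Lie Cfsg.Agent.Lie
open scoped MatrixGroups

variable {D : ChevalleyDatum} {F : Type*} [Field F] (hF : Facts D)

/-- The fixed points of a torus element on a unipotent subgroup. -/
def Cu (c : Fin D.rank → Fˣ) (L : List ℕ) : Set (GL D.Idx F) :=
  {u | u ∈ (hF.tsys F).US L ∧ torus D F c * u * (torus D F c)⁻¹ = u}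

theorem conj_prodOver (c : Fin D.rank → Fˣ) :
    ∀ {L : List ℕ}, (∀ r ∈ L, r < D.nroots) → ∀ f : ℕ → F,
      torus D F c * (hF.tsys F).prodOver L f * (torus D F c)⁻¹ =
        (hF.tsys F).prodOver L fun r => (torChar D c r : F) * f r
  | [], _, f => by simp [CommSys.prodOver]
  | r :: L, h, f => by
    have ih := conj_prodOver c (fun s hs => h s (List.mem_cons_of_mem _ hs)) f
    simp only [CommSys.prodOver, List.map_cons, List.prod_cons] at ih ⊢
    simp only [hF.tsys_x] at ih ⊢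
    rw [← ih, ← hF.torus_conj c (h r (by simp)) (f r)]
    group

open Classical in
theorem card_Cu [Finite F] (c : Fin D.rank → Fˣ) {L : List ℕ} (hL : ClosedList D L) :
    Nat.card (Cu hF c L) = Nat.card F ^ (L.filter fun r => decide (torChar D c r = 1)).length := by
  classical
  have hlt : ∀ r ∈ L, r < D.nroots := fun r hr => (hL.mem_pos r hr).2
  set L' := L.filter fun r => decide (torChar D c r = 1) with hL'
  have hmem : ∀ {r}, r ∈ L' ↔ r ∈ L ∧ torChar D c r = 1 := fun {r} => by simp [hL']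
  let ext : ({r // r ∈ L'} → F) → ℕ → F := fun t r => if h : r ∈ L' then t ⟨r, h⟩ else 0
  have hext : ∀ t, (hF.tsys F).prodOver L (ext t) ∈ Cu hF c L := by
    intro t
    refine ⟨CommSys.prodOver_mem _ _ _, ?_⟩
    rw [conj_prodOver hF c hlt]
    refine CommSys.prodOver_congr _ fun r hr => ?_
    by_cases h : r ∈ L'
    · rw [(hmem.1 h).2, Units.val_one, one_mul]
    · simp [ext, h]
  have hbij : Function.Bijective fun t => (⟨_, hext t⟩ : Cu hF c L) := by
    constructor
    · intro t t' h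
      funext r
      have := hF.prodOver_inj hL (congrArg Subtype.val h) r.1 (hmem.1 r.2).1
      simpa [ext, r.2] using this
    · rintro ⟨g, hg, hgc⟩
      obtain ⟨f, rfl⟩ := (hF.tsys F).exists_prodOver hL hg
      rw [conj_prodOver hF c hlt] at hgc
      refine ⟨fun r => f r.1, Subtype.ext (CommSys.prodOver_congr _ fun r hr => ?_)⟩
      by_cases h : r ∈ L'
      · simp [ext, h]
      · have he := hF.prodOver_inj hL hgc r hr
        have hne : torChar D c r ≠ 1 := fun e => h (hmem.2 ⟨hr, e⟩)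
        simp only [ext, h, dif_neg, not_false_eq_true]
        by_contra hf
        exact hne (Units.ext (by
          rw [Units.val_one]
          exact mul_right_cancel₀ (fun h0 => hf h0.symm) (he.trans (one_mul _).symm)))
  rw [← Nat.card_eq_of_bijective _ hbij, Nat.card_fun]
  congr 1
  rw [Nat.card_eq_fintype_card, Fintype.card_of_subtype L'.toFinset (fun r => List.mem_toFinset),
    List.toFinset_card_of_nodup (hL.sorted.nodup.filter _)]

include hF in
theorem H_comm {a b : GL D.Idx F} (ha : a ∈ (hF.tsys F).H) (hb : b ∈ (hF.tsys F).H) : a * b = b * a := by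
  obtain ⟨x, rfl⟩ := exists_torus hF ha
  obtain ⟨y, rfl⟩ := exists_torus hF hb
  rw [← map_mul, mul_comm, map_mul]

theorem B_eq {u u' a a' : GL D.Idx F} (hu : u ∈ (hF.tsys F).U) (hu' : u' ∈ (hF.tsys F).U)
    (ha : a ∈ (hF.tsys F).H) (ha' : a' ∈ (hF.tsys F).H) (h : u * a = u' * a') : u = u' ∧ a = a' := by
  have e : u'⁻¹ * u = a' * a⁻¹ := by
    rw [eq_mul_inv_iff_mul_eq, mul_assoc, h, inv_mul_cancel_left]
  have h1 := hF.U_inter_H (mul_mem (inv_mem hu') hu) (e ▸ mul_mem ha' (inv_mem ha))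
  obtain rfl : u' = u := inv_mul_eq_one.1 h1
  exact ⟨rfl, mul_left_cancel h⟩

/-- The centralizer of a torus element. -/
theorem card_centralizer [Finite F] (t : D.group F) (c : Fin D.rank → Fˣ)
    (ht : (t : GL D.Idx F) = torus D F c) [Fintype hF.weyl] [DecidablePred (FixT hF c)] :
    Nat.card (Subgroup.centralizer ({t} : Set (D.group F))) =
      Nat.card (Cu hF c (Facts.posL D)) * Nat.card (hF.tsys F).H *
        ∑ w ∈ (Finset.univ : Finset hF.weyl).filter (FixT hF c), Nat.card (Cu hF c (TorusSys.invList w)) := by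
  classical
  set tt := torus D F c with htt
  have hCu : ∀ {L : List ℕ} {u : GL D.Idx F}, u ∈ Cu hF c L → tt * u = u * tt := fun hu => by
    have := hu.2
    rwa [mul_inv_eq_iff_eq_mul] at this
  have hUsub : ∀ (w : hF.weyl) {u : GL D.Idx F}, u ∈ (hF.tsys F).US (TorusSys.invList w) →
      u ∈ (hF.tsys F).B := fun w u hu => (hF.tsys F).U_le_B (CommSys.US_mono _
        (fun r hr => Facts.mem_posL.2 ((TorusSys.closed_invList w).mem_pos r hr)) hu)
  have hBG : (hF.tsys F).B ≤ D.group F := by rw [hF.tsys_B]; exact hF.borel_le_group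
  have hval : ∀ p : (Cu hF c (Facts.posL D) × (hF.tsys F).H) ×
      (Σ w : {w : hF.weyl // FixT hF c w}, Cu hF c (TorusSys.invList w.1)),
      p.1.1.1 * p.1.2.1 * (hF.tsys F).nW p.2.1.1 * p.2.2.1 ∈ D.group F := fun p =>
    mul_mem (mul_mem (hBG ((hF.tsys F).mem_B.2 ⟨_, p.1.1.2.1, _, p.1.2.2, rfl⟩))
      (hF.monomial_le_group (by rw [← hF.tsys_N]; exact (hF.tsys F).nW_mem_N _)))
      (hBG (hUsub _ p.2.2.2.1))
  have hcomm : ∀ p, (⟨_, hval p⟩ : D.group F) ∈ Subgroup.centralizer ({t} : Set (D.group F)) := by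
    intro p
    rw [Subgroup.mem_centralizer_singleton_iff]
    refine Subtype.ext ?_
    show _ * (t : GL D.Idx F) = (t : GL D.Idx F) * _
    rw [ht]
    have h1 : Commute tt p.1.1.1 := hCu p.1.1.2
    have h2 : Commute tt p.1.2.1 := H_comm hF (torus_mem_H hF c) p.1.2.2
    have h3 : Commute tt ((hF.tsys F).nW p.2.1.1) := (mul_inv_eq_iff_eq_mul.1 p.2.1.2).symm
    have h4 : Commute tt p.2.2.1 := hCu p.2.2.2
    exact (((h1.mul_right h2).mul_right h3).mul_right h4).eq.symm
  rw [← Nat.card_eq_of_bijective (fun p => (⟨_, hcomm p⟩ : Subgroup.centralizer ({t} : Set (D.group F))))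
    ⟨?_, ?_⟩, Nat.card_prod, Nat.card_prod, Nat.card_sigma]
  · congr 1
    exact (Finset.sum_subtype _ (fun w => by simp) fun w : hF.weyl =>
      Nat.card (Cu hF c (TorusSys.invList w))).symm
  · rintro ⟨⟨u, a⟩, w, v⟩ ⟨⟨u', a'⟩, w', v'⟩ h
    have h' : u.1 * a.1 * (hF.tsys F).nW w.1 * v.1 = u'.1 * a'.1 * (hF.tsys F).nW w'.1 * v'.1 :=
      congrArg (fun x : Subgroup.centralizer ({t} : Set (D.group F)) => (x.1 : GL D.Idx F)) h
    obtain ⟨hw, hb, hv⟩ := hF.bruhat_unique ((hF.tsys F).mem_B.2 ⟨_, u.2.1, _, a.2, rfl⟩)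
      ((hF.tsys F).mem_B.2 ⟨_, u'.2.1, _, a'.2, rfl⟩) v.2.1 v'.2.1 h'
    obtain rfl : w = w' := Subtype.ext hw
    obtain ⟨h1, h2⟩ := B_eq hF u.2.1 u'.2.1 a.2 a'.2 hb
    obtain rfl : u = u' := Subtype.ext h1
    obtain rfl : a = a' := Subtype.ext h2
    obtain rfl : v = v' := Subtype.ext hv
    rfl
  · rintro ⟨⟨g, hg⟩, hgc⟩
    rw [Subgroup.mem_centralizer_singleton_iff] at hgc
    have hgt : g * tt = tt * g := by
      have := congrArg Subtype.val hgc
      simpa [ht] using this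
    obtain ⟨b, hb, w, v, hv, rfl⟩ := hF.mem_bnu hg
    obtain ⟨u, hu, a, ha, rfl⟩ := (hF.tsys F).mem_B.1 hb
    set n := (hF.tsys F).nW w with hn
    have hk : tt * (n * tt⁻¹ * n⁻¹) ∈ (hF.tsys F).H :=
      mul_mem (torus_mem_H hF c) ((hF.tsys F).nW_H (inv_mem (torus_mem_H hF c)))
    have hat : Commute a tt := H_comm hF ha (torus_mem_H hF c)
    have hu' : tt * u * tt⁻¹ ∈ (hF.tsys F).U :=
      (hF.tsys F).H_conj_US (torus_mem_H hF c) TorusSys.posL_lt hu
    have hv' : tt * v * tt⁻¹ ∈ (hF.tsys F).US (TorusSys.invList w) :=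
      (hF.tsys F).H_conj_US (torus_mem_H hF c)
        (fun r hr => ((TorusSys.closed_invList w).mem_pos r hr).2) hv
    have he : tt * u * tt⁻¹ * (a * (tt * (n * tt⁻¹ * n⁻¹))) * n * (tt * v * tt⁻¹) = u * a * n * v := by
      calc _ = tt * u * tt⁻¹ * (a * tt) * n * v * tt⁻¹ := by group
        _ = tt * (u * a * n * v) * tt⁻¹ := by rw [hat.eq]; group
        _ = _ := by rw [← hgt]; group
    obtain ⟨-, hbb, hvv⟩ := hF.bruhat_unique ((hF.tsys F).mem_B.2 ⟨_, hu', _, mul_mem ha hk, rfl⟩)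
      hb hv' hv he
    obtain ⟨huu, haa⟩ := B_eq hF hu' hu (mul_mem ha hk) ha hbb
    have hfix : FixT hF c w := by
      have h0 : tt * (n * tt⁻¹ * n⁻¹) = 1 := mul_left_cancel (haa.trans (mul_one a).symm)
      show n * tt * n⁻¹ = tt
      have h5 := eq_inv_of_mul_eq_one_left h0
      calc n * tt * n⁻¹ = (n * tt⁻¹ * n⁻¹)⁻¹ := by group
        _ = tt := h5.symm
    exact ⟨((⟨u, hu, huu⟩, ⟨a, ha⟩), ⟨⟨w, hfix⟩, ⟨v, hv, hvv⟩⟩), rfl⟩

end Cfsg.Agent.Small.ChevInvol
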