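import Cfsg.Agent.Lib.Small.ChevInvol.Fast
import Cfsg.Agent.Lib.Lie.WeylG2
import Cfsg.Agent.Lib.Lie.TorusCerts

/-! Tables for the involution classes of the Chevalley group of type G2, checked by the kernel. -/

set_option autoImplicit false
set_option maxRecDepth 100000

namespace Cfsg.Agent.Small.ChevInvol

open Cfsg.Lie Cfsg.Agent.Lie

theorem fastTabG2 : FastTab chevG2 certG2 :=
  fastTab_of_checks factsG2 certG2_okShape (fun i hi => by
    have : i < 2 := hi
    interval_cases i
    · exact certG2_okRefl0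
    · exact certG2_okRefl1
  )

/-- Part of `orbitG2A`. -/
def orbitG2Ap0 : List (List Bool × ℕ × ℕ) := [
  ([true, false], 0, 0),
  ([true, true], 0, 1),
  ([false, true], 1, 0)]

/-- orbitG2A -/
def orbitG2A : List (List Bool × ℕ × ℕ) :=
  orbitG2Ap0

theorem okOrbitG2A : okTable chevG2 [true, false] orbitG2A = true :=
  okTable_of_C factsG2 fastTabG2 (c := certG2) (by decide +kernel)

/-- Part of `chainG2A_0orb`. -/
def chainG2A_0orbp0 : List (List ℤ × ℕ × List ℕ) := [
  ([1, 0], 0, [1]),
  ([-1, 1], 1, [0])]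

/-- chainG2A_0orb -/
def chainG2A_0orb : List (List ℤ × ℕ × List ℕ) :=
  chainG2A_0orbp0

/-- Orbit step. -/
def chainG2A_0 : OrbitStep := ⟨0, chainG2A_0orb⟩

/-- Stabiliser data. -/
def dataG2A : Data where
  b := [true, false]
  J := [0]
  reps := [
    ([], 0),
    ([1, 0, 1, 0, 1], 1)]
  posJ := [7]
  posR := [7, 11]
  chain := [chainG2A_0]

theorem okDataG2A : okData chevG2 certG2.cR colsG2 dataG2A = true :=
  okData_of_C factsG2 fastTabG2 (by decide +kernel)

theorem polyDataG2A : polyEqb (dataPoly dataG2A) (polyProd (([2, 2] : List ℕ).map polyGeom)) = true := by decide +kernel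

theorem cardDataG2A : orbitG2A.length * polyEval 1 (dataPoly dataG2A) = factsG2.lenSum (List.range chevG2.rank) 1 := by
  rw [lenSumG2]
  decide +kernel

theorem okCombG2 : okComb chevG2 = true :=
  okComb_of_C factsG2 fastTabG2 (by decide +kernel)

theorem okCoverG2 : okCover chevG2 [orbitG2A] = true := by decide +kernel

end Cfsg.Agent.Small.ChevInvol
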