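import Cfsg.Agent.Lib.Small.ChevInvol.Count

/-!
Classes of involutions and their centralizers in a Chevalley group, from checked tables.
-/

set_option autoImplicit false

namespace Cfsg.Agent.Small.ChevInvol

open Cfsg.Lie Cfsg.Agent.Lie
open scoped MatrixGroups

variable {D : ChevalleyDatum} {F : Type*} [Field F] (hF : Facts D)

theorem card_centralizer_isConj {G : Type*} [Group G] {a b : G} (h : IsConj a b) :
    Nat.card (Subgroup.centralizer ({a} : Set G)) = Nat.card (Subgroup.centralizer ({b} : Set G)) := by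
  obtain ⟨c, hc⟩ := isConj_iff.1 h
  refine Nat.card_congr ((MulAut.conj c).toEquiv.subtypeEquiv fun x => ?_)
  show _ ↔ c * x * c⁻¹ ∈ _
  rw [Subgroup.mem_centralizer_singleton_iff, Subgroup.mem_centralizer_singleton_iff, ← hc]
  constructor
  · intro hx
    calc c * x * c⁻¹ * (c * a * c⁻¹) = c * (x * a) * c⁻¹ := by group
      _ = _ := by rw [hx]; group
  · intro hx
    calc x * a = c⁻¹ * (c * x * c⁻¹ * (c * a * c⁻¹)) * c := by group
      _ = a * x := by rw [hx]; group

include hF in
/-- The torus element of a bit vector as an element of the group. -/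
theorem exists_sv_elt (hinj : TorusInj D F) (h2 : (2 : F) ≠ 0) {b : List Bool} (hb : b.length = D.rank)
    (hne : b.contains true = true) :
    ∃ t : D.group F, orderOf t = 2 ∧ (t : GL D.Idx F) = torus D F (sv D F b) := by
  have hmem : torus D F (sv D F b) ∈ D.group F := hF.borel_le_group (by
    rw [← hF.tsys_B]; exact (hF.tsys F).H_le_B (torus_mem_H hF _))
  refine ⟨⟨_, hmem⟩, ?_, rfl⟩
  refine orderOf_eq_prime (p := 2) (Subtype.ext ?_) fun h => ?_
  · show torus D F (sv D F b) ^ 2 = 1
    rw [← map_pow, pow_two, show sv D F b * sv D F b = 1 from ?_, map_one]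
    funext m
    simp only [sv, Pi.mul_apply, Pi.one_apply]
    split <;> simp
  · obtain ⟨k, hk, hkt⟩ := List.mem_iff_getElem.1 (List.contains_iff_mem.1 hne)
    have h1 := congrFun (hinj _ (congrArg Subtype.val h)) ⟨k, hb ▸ hk⟩
    rw [Pi.one_apply, sv] at h1
    simp only [List.getD_eq_getElem?_getD, List.getElem?_eq_getElem hk, hkt, Option.getD_some,
      if_true] at h1
    exact neg_one_ne_one h2 h1

theorem sq_of_order_two {G : Type*} [Group G] {u : G} (hu : orderOf u = 2) : u * u = 1 ∧ u ≠ 1 := by
  refine ⟨?_, fun h => ?_⟩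
  · rw [← pow_two, ← hu]; exact pow_orderOf_eq_one u
  · rw [h, orderOf_one] at hu
    exact absurd hu (by norm_num)

include hF in
/-- Every involution is conjugate to the element of one of the representatives. -/
theorem exists_isConj [Fintype F] (hq : Odd (Fintype.card F)) (hinj : TorusInj D F)
    (hok : okComb D = true) {reps : List (List Bool × List (List Bool × ℕ × ℕ))}
    (hT : ∀ p ∈ reps, okTable D p.1 p.2 = true) (hcov : okCover D (reps.map Prod.snd) = true)
    {u : D.group F} (hu : orderOf u = 2) :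
    ∃ p ∈ reps, ∀ t : D.group F, (t : GL D.Idx F) = torus D F (sv D F p.1) → IsConj u t := by
  obtain ⟨h1, h2⟩ := sq_of_order_two hu
  obtain ⟨p, hp, x, hx, he⟩ := exists_conj_sv hF hq hinj hok hT hcov u.2 (congrArg Subtype.val h1)
    (fun e => h2 (Subtype.ext e))
  exact ⟨p, hp, fun t ht => isConj_iff.2 ⟨⟨x, hx⟩, Subtype.ext (by rw [ht, ← he]; rfl)⟩⟩

theorem pow_mul_ne {q a b A B : ℕ} (hq : 1 < q) (hab : b < a) (hB : Nat.Coprime B q) :
    q ^ a * A ≠ q ^ b * B := by
  intro h
  obtain ⟨k, rfl⟩ : ∃ k, a = b + (k + 1) := ⟨a - b - 1, by omega⟩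
  rw [pow_add, mul_assoc] at h
  have h2 : q ^ (k + 1) * A = B := Nat.eq_of_mul_eq_mul_left (pow_pos (by omega) b) h
  have h3 : q ∣ B := ⟨q ^ k * A, by rw [← h2, pow_succ]; ring⟩
  have := Nat.eq_one_of_dvd_coprimes hB h3 dvd_rfl
  omega

theorem coprime_prod_pred {q : ℕ} (hq : 1 ≤ q) :
    ∀ {ds : List ℕ}, (∀ d ∈ ds, 0 < d) → Nat.Coprime (ds.map fun d => q ^ d - 1).prod q
  | [], _ => by simp
  | d :: ds, h => by
    rw [List.map_cons, List.prod_cons]
    refine Nat.Coprime.mul_left ?_ (coprime_prod_pred hq fun e he => h e (List.mem_cons_of_mem _ he))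
    refine (Nat.coprime_pow_right_iff (h d (by simp)) _ _).1 ?_
    exact (Nat.coprime_self_sub_left (Nat.one_le_pow _ _ hq)).2 (Nat.coprime_one_left _)

include hF in
/-- Two classes of involutions with their centralizer orders. -/
theorem two_classes [Fintype F] (hq : Odd (Fintype.card F)) {d0 : Fin 0 → ℕ}
    (K : KerCert (cartanSys D) d0) {rt : ℕ → ℕ → ℕ} (hrt : RefTab D rt) {cols : List (List ℤ)}
    (hD : Facts.okCoroot D = true) (hcols : okCols D cols = true) (hok : okComb D = true)
    {A B : Data} {S T : List (List Bool × ℕ × ℕ)}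
    (hA : okData D rt cols A = true) (hS : okTable D A.b S = true)
    (hB : okData D rt cols B = true) (hT : okTable D B.b T = true)
    (hcov : okCover D [S, T] = true)
    (hcA : S.length * polyEval 1 (dataPoly A) = hF.lenSum (List.range D.rank) 1)
    (hcB : T.length * polyEval 1 (dataPoly B) = hF.lenSum (List.range D.rank) 1)
    {da db : List ℕ} (hda : da.length = D.rank) (hdb : db.length = D.rank)
    (hpA : polyEqb (dataPoly A) (polyProd (da.map polyGeom)) = true)
    (hpB : polyEqb (dataPoly B) (polyProd (db.map polyGeom)) = true)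
    (hne : A.posR.length ≠ B.posR.length) (hposA : ∀ d ∈ da, 0 < d) (hposB : ∀ d ∈ db, 0 < d)
    (hbA : A.b.contains true = true) (hbB : B.b.contains true = true) :
    ∃ s t : D.group F, orderOf s = 2 ∧ orderOf t = 2 ∧ ¬ IsConj s t ∧
      (∀ u : D.group F, orderOf u = 2 → IsConj u s ∨ IsConj u t) ∧
      Nat.card (Subgroup.centralizer ({s} : Set (D.group F))) =
        Fintype.card F ^ A.posR.length * (da.map fun d => Fintype.card F ^ d - 1).prod ∧
      Nat.card (Subgroup.centralizer ({t} : Set (D.group F))) =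
        Fintype.card F ^ B.posR.length * (db.map fun d => Fintype.card F ^ d - 1).prod := by
  have h2 := two_ne_zero_of_odd hq
  have hinj := torusInj_of_cert (F := F) hF K
  obtain ⟨s, hs, hse⟩ := exists_sv_elt hF hinj h2 (okTable_length hS) hbA
  obtain ⟨t, ht, hte⟩ := exists_sv_elt hF hinj h2 (okTable_length hT) hbB
  have cs := card_centralizer_sv hF hq K hrt hD hcols hA hS hcA hda hpA s hse
  have ct := card_centralizer_sv hF hq K hrt hD hcols hB hT hcB hdb hpB t hte
  refine ⟨s, t, hs, ht, fun hc => ?_, fun u hu => ?_, cs, ct⟩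
  · have he := card_centralizer_isConj hc
    rw [cs, ct] at he
    have h1 : 1 < Fintype.card F := Fintype.one_lt_card
    rcases Nat.lt_or_ge B.posR.length A.posR.length with hlt | hge
    · exact pow_mul_ne h1 hlt (coprime_prod_pred h1.le hposB) he
    · exact pow_mul_ne h1 (lt_of_le_of_ne hge hne) (coprime_prod_pred h1.le hposA) he.symm
  · obtain ⟨p, hp, hp'⟩ := exists_isConj hF hq hinj hok (reps := [(A.b, S), (B.b, T)])
      (fun p hp => by
        simp only [List.mem_cons, List.not_mem_nil, or_false] at hp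
        rcases hp with rfl | rfl
        exacts [hS, hT]) hcov hu
    simp only [List.mem_cons, List.not_mem_nil, or_false] at hp
    rcases hp with rfl | rfl
    exacts [Or.inl (hp' s hse), Or.inr (hp' t hte)]

end Cfsg.Agent.Small.ChevInvol
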