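import Cfsg.Agent.Lib.Small.ChevInvol.Main
import Cfsg.Agent.Lib.Small.ChevInvol.DataG2
import Cfsg.Agent.Lib.Small.SL2.Classes

/-!
The two rank one subgroups in the centralizer of the involution of G₂ in odd characteristic.
-/

set_option autoImplicit false

namespace Cfsg.Agent.Small.ChevInvol

open Cfsg.Lie Cfsg.Agent.Lie
open scoped MatrixGroups

section Generic

variable {D : ChevalleyDatum} {F : Type*} [Field F] (hF : Facts D)

theorem phi_injective (hinj : TorusInj D F) (i : Fin D.rank) : Function.Injective (phi (F := F) hF i) := by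
  rw [injective_iff_map_eq_one]
  intro z hz
  have hR := hF.rankOneRel_simple (F := F) i.val i.isLt
  have hi := hF.simple_lt i.val i.isLt
  have hpos := hF.simple_ge i.val i.isLt
  have hdet := RankOneRel.det_eq z
  change RankOneRel.toFun _ _ z = 1 at hz
  rw [RankOneRel.toFun] at hz
  by_cases hc : z.1 1 0 = 0
  · rw [if_pos hc] at hz
    have ha : z.1 0 0 ≠ 0 := fun h => by rw [h, hc] at hdet; simp at hdet
    set a := Units.mk0 _ ha with hadef
    have hh : RankOneRel.hh (hF.xg (D.simple i.val)) (hF.xg (D.neg (D.simple i.val))) (z.1 0 0) =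
        torus D F (Pi.mulSingle i a) := by
      have h := hF.torus_single (F := F) i a
      rw [hF.hg_eq, hF.ng_eq, hF.ng_eq] at h
      rw [h]; rfl
    rw [hh] at hz
    have hU : torus D F (Pi.mulSingle i a) ∈ (hF.tsys F).U := by
      rw [eq_inv_of_mul_eq_one_left hz]
      exact inv_mem ((hF.tsys F).x_mem_U hpos hi _)
    have h1 := hF.U_inter_H hU (torus_mem_H hF _)
    rw [h1, one_mul] at hz
    have h2 := congrFun (hinj _ h1) i
    rw [Pi.mulSingle_eq_same, Pi.one_apply] at h2
    have ha1 : z.1 0 0 = 1 := congrArg Units.val h2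
    have h3 := congrArg Units.val hz
    rw [Facts.coe_xg, Units.val_one, hF.x_eq_one _ hi] at h3
    have hb : z.1 0 1 = 0 := by simpa [ha1] using h3
    have hd : z.1 1 1 = 1 := by rw [ha1, hc] at hdet; simpa using hdet
    refine Subtype.ext ?_
    ext r s
    fin_cases r <;> fin_cases s <;> simp [ha1, hb, hc, hd]
  · exfalso
    rw [if_neg hc] at hz
    have ht : -(z.1 1 0)⁻¹ ≠ 0 := neg_ne_zero.2 (inv_ne_zero hc)
    have hn : hF.ng (D.simple i.val) (-(z.1 1 0)⁻¹) =
        RankOneRel.nn (hF.xg (D.simple i.val)) (hF.xg (D.neg (D.simple i.val))) (-(z.1 1 0)⁻¹) := by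
      rw [hF.ng_eq]; rfl
    rw [← hn] at hz
    have hg : InN hF (hF.ng (D.simple i.val) (-(z.1 1 0)⁻¹)) (hF.wS i) := by
      rw [← hF.tsys_n, TorusSys.n_eq_h_mul, ← one_mul (hF.wS i)]
      exact inN_mul hF (inN_of_H hF ((hF.tsys F).h_mem hi ht)) (inN_nS hF i)
    have hB : hF.ng (D.simple i.val) (-(z.1 1 0)⁻¹) ∈ (hF.tsys F).B := by
      have e : hF.ng (D.simple i.val) (-(z.1 1 0)⁻¹) =
          (hF.xg (D.simple i.val) (z.1 0 0 / z.1 1 0))⁻¹ * (hF.xg (D.simple i.val) (z.1 1 1 / z.1 1 0))⁻¹ := by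
        rw [eq_mul_inv_iff_mul_eq]
        exact eq_inv_of_mul_eq_one_right (by rw [← mul_assoc]; exact hz)
      rw [e]
      exact mul_mem (inv_mem ((hF.tsys F).U_le_B ((hF.tsys F).x_mem_U hpos hi _)))
        (inv_mem ((hF.tsys F).U_le_B ((hF.tsys F).x_mem_U hpos hi _)))
    have hN : hF.ng (D.simple i.val) (-(z.1 1 0)⁻¹) ∈ (hF.tsys F).N := by
      rw [← hF.tsys_n]; exact hF.n_mem_N _ hi _ ht
    have hw := inN_unique hF hg (inN_of_H hF (hF.B_inter_N hB hN))
    have h4 := congrArg (fun w : hF.weyl => (w • hF.refSys.α i : Fin D.nroots).val) hw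
    simp only [Facts.wS_smul, one_smul] at h4
    exact hF.neg_ne_self hi ((Facts.refl_simple (D := D) i.val).symm.trans h4)

theorem commute_closure {G : Type*} [Group G] {A B : Set G} (h : ∀ a ∈ A, ∀ b ∈ B, Commute a b) :
    ∀ x ∈ Subgroup.closure A, ∀ y ∈ Subgroup.closure B, Commute x y := by
  intro x hx y hy
  have h1 : ∀ b ∈ B, Commute x b := by
    intro b hb
    induction hx using Subgroup.closure_induction with
    | mem a ha => exact h a ha b hb
    | one => exact Commute.one_left _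
    | mul p q _ _ hp hq => exact hp.mul_left hq
    | inv p _ hp => exact hp.inv_left
  induction hy using Subgroup.closure_induction with
  | mem b hb => exact h1 b hb
  | one => exact Commute.one_right _
  | mul p q _ _ hp hq => exact hp.mul_right hq
  | inv p _ hp => exact hp.inv_right

theorem sl_center_cases {z : Matrix.SpecialLinearGroup (Fin 2) F} (h : ∀ y, z * y = y * z) :
    z = 1 ∨ z = -1 := by
  have hu := congrArg Subtype.val (h (upS 1))
  have hl := congrArg Subtype.val (h (loS 1))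
  have e : ∀ i j, ((z * upS 1).1 i j = (upS 1 * z).1 i j) ∧ ((z * loS 1).1 i j = (loS 1 * z).1 i j) :=
    fun i j => ⟨congrFun (congrFun hu i) j, congrFun (congrFun hl i) j⟩
  have h1 := (e 0 0).1
  have h2 := (e 0 1).1
  have h3 := (e 0 0).2
  simp [RankOneRel.entries_mul, RankOneRel.upS_val, RankOneRel.loS_val] at h1 h2 h3
  have hdet := RankOneRel.det_eq z
  rw [h1, h3] at hdet
  have ha : z.1 0 0 = 1 ∨ z.1 0 0 = -1 := by
    rw [← mul_self_eq_one_iff]
    linear_combination hdet + z.1 0 0 * h2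
  rcases ha with ha | ha <;> [left; right] <;> refine Subtype.ext ?_ <;> ext r s <;>
    fin_cases r <;> fin_cases s <;> simp_all

end Generic

variable {F : Type*} [Field F]

/-- The first fundamental root of G2. -/
def g2i : Fin chevG2.rank := ⟨0, by decide⟩

/-- The second fundamental root of G2. -/
def g2j : Fin chevG2.rank := ⟨1, by decide⟩

/-- The word carrying the second fundamental root to the root orthogonal to the first. -/
def g2w : List (Fin chevG2.rank) := [g2j, g2i]

theorem g2_roots : chevG2.simple 0 = 7 ∧ chevG2.neg 7 = 4 ∧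
    imgW certG2.cR [1, 0] (chevG2.simple 1) = 11 ∧ imgW certG2.cR [1, 0] (chevG2.neg (chevG2.simple 1)) = 0 ∧
    chevG2.commTerms 7 11 = [] ∧ chevG2.commTerms 7 0 = [] ∧ chevG2.commTerms 4 11 = [] ∧
    chevG2.commTerms 4 0 = [] ∧ chevG2.neg 4 = 7 ∧ wordB chevG2 [false, true] [1, 0] = [true, false] ∧
    chevG2.nroots = 12 := by decide +kernel

theorem phi_neg_one (i : Fin chevG2.rank) :
    phi (F := F) factsG2 i (-1) = torus chevG2 F (Pi.mulSingle i (-1)) := by
  rw [phi_diag factsG2 i (a := (-1 : F)) (z := -1)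
    (by ext r s; fin_cases r <;> fin_cases s <;> simp [inv_neg]), factsG2.torus_single i (-1)]
  simp

theorem exists_pair [Fintype F] (hq : Odd (Fintype.card F)) (t : chevG2.group F) (ht : orderOf t = 2) :
    Nat.card (Subgroup.centralizer ({t} : Set (chevG2.group F))) =
        Fintype.card F ^ 2 * (Fintype.card F ^ 2 - 1) ^ 2 ∧
      ∃ L₁ L₂ : Subgroup (chevG2.group F), Nonempty (L₁ ≃* Matrix.SpecialLinearGroup (Fin 2) F) ∧
        Nonempty (L₂ ≃* Matrix.SpecialLinearGroup (Fin 2) F) ∧ (∀ x ∈ L₁, ∀ y ∈ L₂, x * y = y * x) ∧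
        L₁ ⊓ L₂ = Subgroup.zpowers t ∧ L₁ ⊔ L₂ ≤ Subgroup.centralizer ({t} : Set (chevG2.group F)) ∧
        (L₁ ⊔ L₂).relIndex (Subgroup.centralizer ({t} : Set (chevG2.group F))) = 2 := by
  classical
  have h2 := two_ne_zero_of_odd hq
  have hinj := torusInj_of_cert (F := F) factsG2 kerCertG2
  obtain ⟨r, hr, hrv⟩ := exists_sv_elt factsG2 hinj h2 (okTable_length okOrbitG2A) rfl
  obtain ⟨p, hp, hp'⟩ := exists_isConj factsG2 hq hinj okCombG2 (reps := [([true, false], orbitG2A)])
    (fun p hp => by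
      rw [List.mem_singleton] at hp
      subst hp
      exact okOrbitG2A) okCoverG2 ht
  rw [List.mem_singleton] at hp
  subst hp
  obtain ⟨g, hg⟩ := isConj_iff.1 (hp' r hrv)
  have hcard : Nat.card (Subgroup.centralizer ({t} : Set (chevG2.group F))) =
      Fintype.card F ^ 2 * (Fintype.card F ^ 2 - 1) ^ 2 := by
    rw [card_centralizer_isConj (hp' r hrv), card_centralizer_sv factsG2 hq kerCertG2 fastTabG2.refl
      okCorootG2 okColsG2 okDataG2A okOrbitG2A cardDataG2A (degs := [2, 2]) rfl polyDataG2A r hrv]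
    simp [dataG2A, pow_two]
  refine ⟨hcard, ?_⟩
  -- the two homomorphisms
  have hnw : (factsG2.tsys F).nw g2w ∈ chevG2.group F := by
    refine factsG2.monomial_le_group ?_
    rw [← factsG2.tsys_N]
    exact (factsG2.tsys F).nw_mem_N _
  let ψ : Matrix.SpecialLinearGroup (Fin 2) F →* chevG2.group F :=
    (phi factsG2 g2i).codRestrict _ (phi_mem factsG2 g2i)
  let n : chevG2.group F := ⟨_, hnw⟩
  let χ : Matrix.SpecialLinearGroup (Fin 2) F →* chevG2.group F :=
    (MulAut.conj n).toMonoidHom.comp ((phi factsG2 g2j).codRestrict _ (phi_mem factsG2 g2j))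
  obtain ⟨e7, e4, e11, e0, c1, c2, c3, c4, n4, hwd, hN⟩ := g2_roots
  have hψi : Function.Injective ψ := fun a b h =>
    phi_injective factsG2 hinj g2i (congrArg Subtype.val h)
  have hχi : Function.Injective χ := fun a b h => phi_injective factsG2 hinj g2j (congrArg Subtype.val
    ((MulAut.conj n).injective h))
  have hcommR : ∀ a b, Commute (ψ a) (χ b) := by
    intro a b
    refine Subtype.ext ?_
    show phi factsG2 g2i a * ((factsG2.tsys F).nw g2w * phi factsG2 g2j b * ((factsG2.tsys F).nw g2w)⁻¹) =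
      ((factsG2.tsys F).nw g2w * phi factsG2 g2j b * ((factsG2.tsys F).nw g2w)⁻¹) * phi factsG2 g2i a
    set N := (factsG2.tsys F).nw g2w with hNdef
    have hmem : ∀ (k : Fin chevG2.rank) (x : Matrix.SpecialLinearGroup (Fin 2) F),
        phi factsG2 k x ∈ Subgroup.closure
          (Set.range (factsG2.xg (F := F) (chevG2.simple k.val)) ∪
            Set.range (factsG2.xg (chevG2.neg (chevG2.simple k.val)))) := fun k x => by
      have h : phi factsG2 k x ∈ (phi (F := F) factsG2 k).range := ⟨x, rfl⟩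
      rwa [phi, RankOneRel.hom_range] at h
    have hB : ∀ y ∈ Set.range (factsG2.xg (F := F) (chevG2.simple g2j.val)) ∪
        Set.range (factsG2.xg (chevG2.neg (chevG2.simple g2j.val))),
        N * y * N⁻¹ ∈ Set.range (factsG2.xg (F := F) 11) ∪ Set.range (factsG2.xg 0) := by
      have him : ∀ x : Fin chevG2.nroots, (factsG2.refSys.pr g2w • x : Fin chevG2.nroots).val =
          imgW certG2.cR [1, 0] x.val := fun x => imgW_spec factsG2 fastTabG2.refl g2w x
      rintro y (⟨v, rfl⟩ | ⟨v, rfl⟩)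
      · obtain ⟨e, -, he⟩ := (factsG2.tsys F).nw_conj g2w ⟨_, factsG2.simple_lt 1 g2j.isLt⟩
        refine Or.inl ⟨e * v, ?_⟩
        rw [← e11, ← him ⟨_, factsG2.simple_lt 1 g2j.isLt⟩]
        exact (he v).symm
      · obtain ⟨e, -, he⟩ := (factsG2.tsys F).nw_conj g2w ⟨_, factsG2.neg_lt (factsG2.simple_lt 1 g2j.isLt)⟩
        refine Or.inr ⟨e * v, ?_⟩
        rw [← e0, ← him ⟨_, factsG2.neg_lt (factsG2.simple_lt 1 g2j.isLt)⟩]
        exact (he v).symm
    have hclo : N * phi factsG2 g2j b * N⁻¹ ∈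
        Subgroup.closure (Set.range (factsG2.xg (F := F) 11) ∪ Set.range (factsG2.xg 0)) := by
      have h := Subgroup.mem_map_of_mem (MulAut.conj N).toMonoidHom (hmem g2j b)
      rw [MonoidHom.map_closure] at h
      refine Subgroup.closure_mono ?_ h
      rintro _ ⟨y, hy, rfl⟩
      exact hB y hy
    refine commute_closure (fun x hx y hy => ?_) _ (hmem g2i a) _ hclo
    have hx' : ∃ s, (s = 7 ∨ s = 4) ∧ ∃ v : F, factsG2.xg s v = x := by
      rcases hx with ⟨v, rfl⟩ | ⟨v, rfl⟩
      · exact ⟨_, Or.inl e7, v, rfl⟩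
      · exact ⟨_, Or.inr (show chevG2.neg (chevG2.simple 0) = 4 by rw [e7, e4]), v, rfl⟩
    have hy' : ∃ s, (s = 11 ∨ s = 0) ∧ ∃ v : F, factsG2.xg s v = y := by
      rcases hy with ⟨v, rfl⟩ | ⟨v, rfl⟩
      exacts [⟨_, Or.inl rfl, v, rfl⟩, ⟨_, Or.inr rfl, v, rfl⟩]
    obtain ⟨s, hs, v, rfl⟩ := hx'
    obtain ⟨s', hs', v', rfl⟩ := hy'
    refine (x_comm_of_empty factsG2 (by rw [hN]; rcases hs with rfl | rfl <;> norm_num)
      (by rw [hN]; rcases hs' with rfl | rfl <;> norm_num) ?_ ?_ ?_ v v').symm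
    · rcases hs with rfl | rfl <;> rcases hs' with rfl | rfl <;> norm_num
    · rcases hs with rfl | rfl <;> rcases hs' with rfl | rfl <;> simp [e4, n4]
    · rcases hs with rfl | rfl <;> rcases hs' with rfl | rfl <;> assumption
  have hψt : ψ (-1) = r := by
    refine Subtype.ext ?_
    show phi factsG2 g2i (-1) = _
    rw [phi_neg_one, hrv]
    congr 1
    funext m
    fin_cases m <;> simp [sv, g2i, dataG2A, Pi.mulSingle_apply, Fin.ext_iff]
  have hχt : χ (-1) = r := by
    refine Subtype.ext ?_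
    show (factsG2.tsys F).nw g2w * phi factsG2 g2j (-1) * ((factsG2.tsys F).nw g2w)⁻¹ = _
    rw [phi_neg_one, hrv, show (Pi.mulSingle g2j (-1) : Fin chevG2.rank → Fˣ) = sv chevG2 F [false, true] from ?_,
      (nw_sv factsG2 rfl g2w).1]
    · exact congrArg (fun b => torus chevG2 F (sv chevG2 F b)) hwd
    · funext m
      fin_cases m <;> simp [sv, g2j, Pi.mulSingle_apply, Fin.ext_iff]
  have hinter : ψ.range ⊓ χ.range = Subgroup.zpowers r := by
    refine le_antisymm (fun x hx => ?_) ?_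
    · obtain ⟨⟨a, rfl⟩, ⟨b, hb⟩⟩ := hx
      rcases sl_center_cases (z := a) (fun y => hψi (by
        rw [map_mul, map_mul, ← hb]
        exact (hcommR y b).eq.symm)) with rfl | rfl
      · rw [map_one]; exact one_mem _
      · rw [hψt]; exact Subgroup.mem_zpowers r
    · rw [Subgroup.zpowers_le]
      exact ⟨⟨-1, hψt⟩, ⟨-1, hχt⟩⟩
  have hle : ψ.range ⊔ χ.range ≤ Subgroup.centralizer ({r} : Set (chevG2.group F)) := by
    refine sup_le ?_ ?_ <;> rintro _ ⟨a, rfl⟩ <;> rw [Subgroup.mem_centralizer_singleton_iff]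
    · rw [← hχt]; exact (hcommR a (-1)).eq
    · rw [← hψt]; exact (hcommR (-1) a).eq.symm
  have hrel : (ψ.range ⊔ χ.range).relIndex (Subgroup.centralizer ({r} : Set (chevG2.group F))) = 2 := by
    have hr2 : Nat.card (Subgroup.zpowers r) = 2 := by rw [Nat.card_zpowers, hr]
    let f : Matrix.SpecialLinearGroup (Fin 2) F × Matrix.SpecialLinearGroup (Fin 2) F →* chevG2.group F :=
      ψ.noncommCoprod χ hcommR
    have hrange : f.range = ψ.range ⊔ χ.range := ψ.noncommCoprod_range χ hcommR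
    have hkap : ∀ x : f.ker, ψ x.1.1 ∈ ψ.range ⊓ χ.range := fun x => by
      refine ⟨⟨_, rfl⟩, x.1.2⁻¹, ?_⟩
      have h : ψ x.1.1 * χ x.1.2 = 1 := x.2
      rw [map_inv]
      exact (eq_inv_of_mul_eq_one_left h).symm
    have hker : Nat.card f.ker = 2 := by
      refine Eq.trans ?_ ((congrArg (fun K : Subgroup (chevG2.group F) => Nat.card K) hinter).trans hr2)
      refine Nat.card_eq_of_bijective (fun x => (⟨_, hkap x⟩ : ↥(ψ.range ⊓ χ.range))) ⟨?_, ?_⟩
      · rintro ⟨⟨a, b⟩, hab⟩ ⟨⟨a', b'⟩, hab'⟩ h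
        obtain rfl : a = a' := hψi (congrArg Subtype.val h)
        obtain rfl : b = b' := hχi (mul_left_cancel ((hab : ψ a * χ b = 1).trans (hab' : ψ a * χ b' = 1).symm))
        rfl
      · rintro ⟨x, ⟨a, rfl⟩, ⟨b, hb⟩⟩
        exact ⟨⟨(a, b⁻¹), show ψ a * χ b⁻¹ = 1 by rw [map_inv, hb, mul_inv_cancel]⟩, rfl⟩
    have h1 : Nat.card f.range * 2 =
        (Fintype.card F * (Fintype.card F ^ 2 - 1)) * (Fintype.card F * (Fintype.card F ^ 2 - 1)) := by
      rw [← Small.SL2C.card_SL2, ← Nat.card_prod, ← Subgroup.card_mul_index f.ker, Subgroup.index_ker, hker,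
        mul_comm]
    have h3 := Subgroup.relIndex_mul_relIndex ⊥ _ _ bot_le hle
    rw [Subgroup.relIndex_bot_left, Subgroup.relIndex_bot_left, ← card_centralizer_isConj (hp' r hrv),
      hcard, ← hrange] at h3
    rw [← hrange]
    have hpos : 0 < Nat.card f.range := Nat.card_pos
    refine Nat.eq_of_mul_eq_mul_left hpos ?_
    rw [h3, h1]
    ring
  -- transport to t
  set c := MulAut.conj g⁻¹ with hc
  have hct : c r = t := by rw [hc, MulAut.conj_apply, ← hg]; group
  have hcz : (Subgroup.centralizer ({r} : Set (chevG2.group F))).map c.toMonoidHom =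
      Subgroup.centralizer ({t} : Set (chevG2.group F)) := by
    ext x
    simp only [Subgroup.mem_map, Subgroup.mem_centralizer_singleton_iff]
    constructor
    · rintro ⟨y, hy, rfl⟩
      rw [← hct]
      show c y * c r = c r * c y
      rw [← map_mul, ← map_mul, hy]
    · intro hx
      refine ⟨c.symm x, c.injective ?_, c.apply_symm_apply x⟩
      rw [map_mul, map_mul, c.apply_symm_apply, hct, hx]
  refine ⟨ψ.range.map c.toMonoidHom, χ.range.map c.toMonoidHom,
    ⟨(c.subgroupMap _).symm.trans (MonoidHom.ofInjective hψi).symm⟩,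
    ⟨(c.subgroupMap _).symm.trans (MonoidHom.ofInjective hχi).symm⟩, ?_, ?_, ?_, ?_⟩
  · rintro _ ⟨_, ⟨a, rfl⟩, rfl⟩ _ ⟨_, ⟨b, rfl⟩, rfl⟩
    exact ((hcommR a b).map c.toMonoidHom).eq
  · rw [← Subgroup.map_inf _ _ _ c.injective, hinter, MonoidHom.map_zpowers]
    exact congrArg Subgroup.zpowers hct
  · rw [← Subgroup.map_sup, ← hcz]; exact Subgroup.map_mono hle
  · rw [← Subgroup.map_sup, ← hcz, Subgroup.relIndex_map_map_of_injective _ _ c.injective, hrel]

end Cfsg.Agent.Small.ChevInvol
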