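import Cfsg.Agent.Lib.Small.ChevInvol.Cent

/-!
The order of the centralizer of a torus involution, from coset representatives of a parabolic
subgroup in its Weyl stabiliser.
-/

set_option autoImplicit false

namespace Cfsg.Agent.Small.ChevInvol

open Cfsg.Lie Cfsg.Agent.Lie
open scoped MatrixGroups

variable {D : ChevalleyDatum} {F : Type*} [Field F] (hF : Facts D)

/-- A function agrees with the fundamental reflections. -/
def RefTab (D : ChevalleyDatum) (rt : ℕ → ℕ → ℕ) : Prop :=
  ∀ i, i < D.rank → ∀ s, s < D.nroots → D.reflectRoot i s = rt i s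

/-- A word acting on a root, last letter first. -/
def imgW (rt : ℕ → ℕ → ℕ) (ω : List ℕ) (x : ℕ) : ℕ :=
  ω.foldr (fun i y => rt i y) x

theorem imgW_spec {rt : ℕ → ℕ → ℕ} (h : RefTab D rt) (ω : List (Fin D.rank))
    (x : Fin D.nroots) : (hF.refSys.pr ω • x : Fin D.nroots).val = imgW rt (ω.map Fin.val) x.val := by
  induction ω with
  | nil => simp [imgW]
  | cons i ω ih =>
    rw [RefSystem.pr_cons, mul_smul, show hF.refSys.s i = hF.wS i from rfl, Facts.wS_smul,
      h i.val i.isLt _ (Fin.isLt _), ih]
    rfl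

/-- A root supported on J. -/
def inJRoot (D : ChevalleyDatum) (J : List ℕ) (x : ℕ) : Bool :=
  (List.range D.rank).all fun k => J.contains k || co D x k == 0

/-- Data for the stabiliser of a bit vector. -/
structure Data where
  b : List Bool
  J : List ℕ
  reps : List (List ℕ × ℕ)
  posJ : List ℕ
  posR : List ℕ
  chain : List OrbitStep

/-- Letters in range. -/
def finW (D : ChevalleyDatum) (ω : List ℕ) : List (Fin D.rank) :=
  ω.filterMap fun i => if h : i < D.rank then some ⟨i, h⟩ else none

theorem map_finW {ω : List ℕ} (h : ∀ i ∈ ω, i < D.rank) : (finW D ω).map Fin.val = ω := by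
  induction ω with
  | nil => rfl
  | cons a ω ih =>
    rw [finW, List.filterMap_cons_some (b := ⟨a, h a (by simp)⟩) (by simp [h a (by simp)]), List.map_cons]
    exact congrArg (List.cons a) (ih fun i hi => h i (List.mem_cons_of_mem _ hi))

/-- The checks. -/
noncomputable def okData (D : ChevalleyDatum) (rt : ℕ → ℕ → ℕ) (cols : List (List ℤ)) (A : Data) : Bool :=
  decide (A.b.length = D.rank) && A.J.all (fun j => decide (j < D.rank)) &&
  okChainW D cols A.J A.chain &&
  A.posJ == (Facts.posL D).filter (inJRoot D A.J) &&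
  A.posR == (Facts.posL D).filter (evenB D A.b) &&
  A.posJ.all (evenB D A.b) &&
  A.reps.all (fun p => p.1.all (fun i => decide (i < D.rank)) && wordB D A.b p.1 == A.b &&
    A.posJ.all (fun x => decide (D.nroots / 2 ≤ imgW rt p.1 x)) &&
    (A.posR.filter fun x => decide (imgW rt p.1 x < D.nroots / 2)).length == p.2) &&
  decide ((A.reps.map fun p => (List.range D.rank).map fun i => imgW rt p.1 (D.simple i)).Nodup)

/-- Generating polynomial of the stabiliser. -/
def dataPoly (A : Data) : List ℕ := polyMul (polyOf (A.reps.map Prod.snd)) (chainPoly A.chain)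

include hF in
theorem evenB_refl {b : List Bool} {i x : ℕ} (hi : i < D.rank) (hx : x < D.nroots)
    (h : evenB D b (D.simple i) = true) : evenB D b (D.reflectRoot i x) = evenB D b x := by
  have key : bitSum D b (D.reflectRoot i x) = bitSum D b x - D.cartan i x * bitSum D b (D.simple i) := by
    simp only [bitSum]
    have : ∀ L : List ℕ, (∀ m ∈ L, m < D.rank) →
        (L.map fun m => if b.getD m false then D.cartan m (D.reflectRoot i x) else 0).sum =
          (L.map fun m => if b.getD m false then D.cartan m x else 0).sum -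
            D.cartan i x * (L.map fun m => if b.getD m false then D.cartan m (D.simple i) else 0).sum := by
      intro L hL
      induction L with
      | nil => simp
      | cons m L ih =>
        simp only [List.map_cons, List.sum_cons]
        rw [ih fun k hk => hL k (List.mem_cons_of_mem _ hk)]
        split
        · rw [hF.cartan_refl i hi x hx m (hL m (by simp))]; ring
        · ring
    exact this _ fun m hm => List.mem_range.1 hm
  rw [evenB, beq_iff_eq] at h
  obtain ⟨k, hk⟩ : ∃ k, bitSum D b (D.simple i) = 2 * k := ⟨bitSum D b (D.simple i) / 2, by omega⟩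
  rw [evenB, evenB, key, hk, show bitSum D b x - D.cartan i x * (2 * k) = bitSum D b x - 2 * (D.cartan i x * k) by ring,
    Int.sub_mul_emod_self_left]

/-- The exponent of an element of the stabiliser. -/
noncomputable def expR (b : List Bool) (w : hF.weyl) : ℕ :=
  ((hF.refSys.inv w).filter fun x => evenB D b x.val = true).card

theorem length_filter_invList (b : List Bool) (w : hF.weyl) :
    ((TorusSys.invList w).filter (evenB D b)).length = expR hF b w := by
  classical
  have hnd : ((TorusSys.invList w).filter (evenB D b)).Nodup :=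
    (hF.closedList_posL.sorted.nodup.filter _).filter _
  rw [← List.toFinset_card_of_nodup hnd, expR,
    ← Finset.card_map (Fin.valEmbedding) (s := (hF.refSys.inv w).filter _)]
  congr 1
  ext r
  simp only [List.mem_toFinset, List.mem_filter, TorusSys.mem_invList, Finset.mem_map,
    Finset.mem_filter, Fin.valEmbedding_apply]
  exact ⟨fun ⟨⟨h, hh⟩, he⟩ => ⟨⟨r, h⟩, ⟨hh, he⟩, rfl⟩, fun ⟨a, ⟨ha, he⟩, e⟩ => e ▸ ⟨⟨a.isLt, ha⟩, he⟩⟩

theorem inJRoot_iff {J : List ℕ} {x : ℕ} :
    inJRoot D J x = true ↔ ∀ k, k < D.rank → k ∈ J ∨ co D x k = 0 := by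
  simp [inJRoot]

open Classical in
theorem sum_fixT [Finite F] (hinj : TorusInj D F) (h2 : (2 : F) ≠ 0) {rt : ℕ → ℕ → ℕ} (hrt : RefTab D rt)
    {cols : List (List ℤ)} (hD : Facts.okCoroot D = true) (hcols : okCols D cols = true) {A : Data}
    (hA : okData D rt cols A = true) {T : List (List Bool × ℕ × ℕ)} (hT : okTable D A.b T = true)
    (hcard : T.length * polyEval 1 (dataPoly A) = hF.lenSum (List.range D.rank) 1) (q : ℕ) :
    ∑ w ∈ (Finset.univ : Finset hF.weyl).filter (FixT hF (sv D F A.b)), q ^ expR hF A.b w =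
      polyEval q (dataPoly A) := by
  simp only [okData, Bool.and_eq_true, decide_eq_true_eq, List.all_eq_true, beq_iff_eq] at hA
  obtain ⟨⟨⟨⟨⟨⟨⟨hb, hJ⟩, hch⟩, hPJ⟩, hPR⟩, hJR⟩, hreps⟩, hnd⟩ := hA
  -- positive roots supported on J
  have hposJ : ∀ x : Fin D.nroots, x ∈ hF.refSys.P → inJRoot D A.J x.val = true → x.val ∈ A.posJ := by
    intro x hx hi
    rw [hPJ, List.mem_filter]
    exact ⟨Facts.mem_posL.2 ⟨by simpa [Facts.refSys] using hx, x.isLt⟩, hi⟩
  have hsimpJ : ∀ j : Fin D.rank, j.val ∈ A.J → evenB D A.b (D.simple j.val) = true := by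
    intro j hj
    refine hJR _ (hposJ (hF.refSys.α j) (hF.refSys.α_mem j) (inJRoot_iff.2 fun k hk => ?_))
    show k ∈ A.J ∨ co D (D.simple j.val) k = 0
    by_cases hkj : k = j.val
    · exact Or.inl (hkj ▸ hj)
    · exact Or.inr (by rw [hF.co_simple j.val j.isLt k hk, if_neg hkj])
  have hevenJ : ∀ v, hF.InJ A.J v → ∀ x : Fin D.nroots,
      evenB D A.b (v • x : Fin D.nroots).val = evenB D A.b x.val := by
    rintro v ⟨ω, hω, rfl⟩
    induction ω with
    | nil => simp
    | cons i ω ih =>
      intro x
      rw [RefSystem.pr_cons, mul_smul, show hF.refSys.s i = hF.wS i from rfl, Facts.wS_smul,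
        evenB_refl hF i.isLt (Fin.isLt _) (hsimpJ i (hω i (by simp))),
        ih (fun k hk => hω k (List.mem_cons_of_mem _ hk))]
  have hfixJ : ∀ v, hF.InJ A.J v → FixT (F := F) hF (sv D F A.b) v := by
    rintro v ⟨ω, hω, rfl⟩
    rw [fixT_iff hF rfl hb hinj h2]
    induction ω with
    | nil => rfl
    | cons i ω ih =>
      show flipB D (wordB D A.b (ω.map Fin.val)) i.val = A.b
      rw [ih fun k hk => hω k (List.mem_cons_of_mem _ hk), flipB, if_pos (hsimpJ i (hω i (by simp)))]
  have hkeep : ∀ v, hF.InJ A.J v → ∀ x : Fin D.nroots, x ∈ hF.refSys.P → inJRoot D A.J x.val = false →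
      v • x ∈ hF.refSys.P ∧ inJRoot D A.J (v • x : Fin D.nroots).val = false := by
    rintro v ⟨ω, hω, rfl⟩ x hx hi
    rw [← Bool.not_eq_true, inJRoot_iff] at hi
    simp only [not_forall, not_or] at hi
    obtain ⟨k, hk, hkJ, hc⟩ := hi
    have he := co_pr hF hk (L := ω) (fun j hj e => hkJ (e ▸ hω j hj)) x
    constructor
    · refine pos_of_co hF hk ?_
      rw [he]
      have := hF.co_nonneg x.isLt (by simpa [Facts.refSys] using hx) k
      omega
    · rw [← Bool.not_eq_true, inJRoot_iff]
      exact fun h => (h k hk).elim hkJ fun h0 => hc (he ▸ h0)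
  have hinvJ : ∀ v, hF.InJ A.J v → ∀ x ∈ hF.refSys.inv v,
      inJRoot D A.J x.val = true ∧ inJRoot D A.J (v • x : Fin D.nroots).val = true := by
    intro v hv x hx
    obtain ⟨h1, h2⟩ := (RefSystem.mem_inv _).1 hx
    have hn : hF.refSys.neg (v • x) ∈ hF.refSys.P := (hF.refSys.neg_mem _).2 h2
    constructor
    · by_contra hc
      exact h2 (hkeep v hv x h1 (Bool.not_eq_true _ ▸ hc)).1
    · by_contra hc
      have hc' : inJRoot D A.J (hF.refSys.neg (v • x) : Fin D.nroots).val = false := by
        rw [← Bool.not_eq_true, inJRoot_iff]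
        rw [inJRoot_iff] at hc
        refine fun h => hc fun k hk => (h k hk).imp_right fun h0 => ?_
        change co D (D.neg _) k = 0 at h0
        rw [hF.co_neg _ (Fin.isLt _) k hk] at h0
        omega
      have := (hkeep v⁻¹ (Facts.InJ.inv hF hv) _ hn hc').1
      rw [RefSystem.smul_neg, inv_smul_smul, hF.refSys.neg_mem] at this
      exact this h1
  -- representatives
  let d : Fin A.reps.length → hF.weyl := fun k => hF.refSys.pr (finW D (A.reps.get k).1)
  have hmapd : ∀ k, (finW D (A.reps.get k).1).map Fin.val = (A.reps.get k).1 := fun k =>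
    map_finW (hreps _ (List.get_mem _ _)).1.1.1
  have himg : ∀ k (x : Fin D.nroots), (d k • x : Fin D.nroots).val = imgW rt (A.reps.get k).1 x.val :=
    fun k x => by rw [imgW_spec hF hrt, hmapd]
  have hdfix : ∀ k, FixT (F := F) hF (sv D F A.b) (d k) := fun k => by
    rw [fixT_iff hF rfl hb hinj h2, hmapd]
    exact (hreps _ (List.get_mem _ _)).1.1.2
  have hdpos : ∀ k (x : Fin D.nroots), x ∈ hF.refSys.P → inJRoot D A.J x.val = true →
      d k • x ∈ hF.refSys.P := fun k x hx hi => by
    have := (hreps _ (List.get_mem A.reps k)).1.2 _ (hposJ x hx hi)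
    rw [← himg] at this
    simpa [Facts.refSys] using this
  have hdexp : ∀ k, expR hF A.b (d k) = (A.reps.get k).2 := fun k => by
    rw [← (hreps _ (List.get_mem A.reps k)).2, ← length_filter_invList, hPR, TorusSys.invList,
      List.filter_filter, List.filter_filter]
    refine congrArg List.length (List.filter_congr fun r hr => ?_)
    obtain ⟨h1, h2⟩ := Facts.mem_posL.1 hr
    rw [Bool.and_comm]
    congr 1
    rw [decide_eq_decide, ← himg k ⟨r, h2⟩]
    simp [Facts.refSys, h2]
  have hfmul : ∀ v w, FixT (F := F) hF (sv D F A.b) v → FixT (F := F) hF (sv D F A.b) w →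
      FixT (F := F) hF (sv D F A.b) (v * w) := by
    intro v w hv hw
    unfold FixT at hv hw ⊢
    rw [nw_eq_nW_conj hF (ω := TorusSys.word v ++ TorusSys.word w)
      (by rw [RefSystem.pr_append, TorusSys.pr_word, TorusSys.pr_word]), TorusSys.nw_append]
    unfold TorusSys.nW at hv hw
    conv_rhs => rw [← hv, ← hw]
    group
  let f : Fin A.reps.length × {v : hF.weyl // hF.InJ A.J v} →
      {w : hF.weyl // FixT (F := F) hF (sv D F A.b) w} :=
    fun p => ⟨d p.1 * p.2.1, hfmul _ _ (hdfix _) (hfixJ _ p.2.2)⟩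
  have hf : Function.Injective f := by
    rintro ⟨k, v, hv⟩ ⟨l, w, hw⟩ h
    have h' : d k * v = d l * w := congrArg Subtype.val h
    have hu : hF.InJ A.J (v * w⁻¹) := Facts.InJ.mul hF hv (Facts.InJ.inv hF hw)
    have hdl : d l = d k * (v * w⁻¹) := by rw [← mul_assoc, h', mul_inv_cancel_right]
    have hone : v * w⁻¹ = 1 := by
      refine hF.refSys.eq_one_of_len_eq_zero ?_
      rw [RefSystem.len, Finset.card_eq_zero]
      refine Finset.eq_empty_of_forall_notMem fun x hx => ?_
      obtain ⟨hxJ, hyJ⟩ := hinvJ _ hu x hx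
      obtain ⟨h1, h2⟩ := (RefSystem.mem_inv _).1 hx
      have hp := hdpos l x h1 hxJ
      rw [hdl, mul_smul] at hp
      have hyJ' : inJRoot D A.J (hF.refSys.neg ((v * w⁻¹) • x) : Fin D.nroots).val = true := by
        rw [inJRoot_iff] at hyJ ⊢
        refine fun j hj => (hyJ j hj).imp_right fun h0 => ?_
        show co D (D.neg _) j = 0
        rw [hF.co_neg _ (Fin.isLt _) j hj, h0, neg_zero]
      have hp' := hdpos k _ ((hF.refSys.neg_mem _).2 h2) hyJ'
      rw [RefSystem.smul_neg, hF.refSys.neg_mem] at hp'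
      exact hp' hp
    rw [hone, mul_one] at hdl
    have hkl : k = l := by
      refine Fin.ext ((List.Nodup.getElem_inj_iff hnd (hi := by simp) (hj := by simp)).1 ?_)
      simp only [List.getElem_map]
      refine List.map_congr_left fun i hi => ?_
      show imgW rt (A.reps.get k).1 _ = imgW rt (A.reps.get l).1 _
      rw [← himg k ⟨_, hF.simple_lt i (List.mem_range.1 hi)⟩, ← himg l ⟨_, hF.simple_lt i (List.mem_range.1 hi)⟩, hdl]
    subst hkl
    obtain rfl : v = w := mul_inv_eq_one.1 hone
    rfl
  have hsumJ : ∀ q, ∑ v : {v : hF.weyl // hF.InJ A.J v}, q ^ hF.refSys.len v.1 = polyEval q (chainPoly A.chain) := by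
    intro q
    rw [← hF.lenSum_chain hD hcols _ _ hch (fun j hj => hJ j hj) q, Facts.lenSum]
    exact (Finset.sum_subtype _ (fun w => by simp) fun w : hF.weyl => q ^ hF.refSys.len w).symm
  have hpoly : ∀ q, polyEval q (dataPoly A) =
      ∑ p : Fin A.reps.length × {v : hF.weyl // hF.InJ A.J v}, q ^ ((A.reps.get p.1).2 + hF.refSys.len p.2.1) := by
    intro q
    rw [Fintype.sum_prod_type, dataPoly, polyEval_mul, polyEval_of, ← hsumJ, List.map_map,
      ← Fin.sum_univ_fun_getElem, Finset.sum_mul]
    simp only [Finset.mul_sum, pow_add, Function.comp_apply, List.get_eq_getElem]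
  have hbij : Function.Bijective f := by
    rw [Fintype.bijective_iff_injective_and_card]
    refine ⟨hf, ?_⟩
    have h1 := card_fixT (F := F) hF hinj h2 hT
    rw [hF.card_weyl, ← hcard] at h1
    have hT0 : 0 < T.length := by
      rw [Nat.pos_iff_ne_zero]
      intro h0
      simp [okTable, List.eq_nil_of_length_eq_zero h0] at hT
    have h3 := Nat.eq_of_mul_eq_mul_left hT0 h1
    rw [hpoly] at h3
    simp only [one_pow, Finset.sum_const, smul_eq_mul, mul_one, Finset.card_univ] at h3
    rw [← h3, Nat.card_eq_fintype_card]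
  rw [hpoly, Finset.sum_subtype _ (p := FixT (F := F) hF (sv D F A.b)) (fun w => by simp)
    (fun w : hF.weyl => q ^ expR hF A.b w), ← hbij.sum_comp]
  refine Finset.sum_congr rfl fun p _ => ?_
  congr 1
  obtain ⟨k, v, hv⟩ := p
  show expR hF A.b (d k * v) = _
  rw [← hdexp, expR, expR, RefSystem.len]
  set E := (hF.refSys.inv (d k)).filter fun x => evenB D A.b x.val = true with hE
  have hEJ : ∀ y ∈ E, inJRoot D A.J y.val = false := fun y hy => by
    obtain ⟨h1, h2⟩ := (RefSystem.mem_inv _).1 (Finset.mem_filter.1 hy).1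
    by_contra hc
    exact h2 (hdpos k y h1 (Bool.not_eq_false _ ▸ hc))
  have hset : (hF.refSys.inv (d k * v)).filter (fun x => evenB D A.b x.val = true) =
      hF.refSys.inv v ∪ E.image (fun y => v⁻¹ • y) := by
    ext x
    simp only [Finset.mem_filter, RefSystem.mem_inv, Finset.mem_union, Finset.mem_image, mul_smul]
    constructor
    · rintro ⟨⟨h1, h2⟩, h3⟩
      by_cases hvx : v • x ∈ hF.refSys.P
      · exact Or.inr ⟨v • x, Finset.mem_filter.2
          ⟨(RefSystem.mem_inv _).2 ⟨hvx, h2⟩, (hevenJ v hv x).trans h3⟩, inv_smul_smul _ _⟩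
      · exact Or.inl ⟨h1, hvx⟩
    · rintro (⟨h1, h2⟩ | ⟨y, hy, rfl⟩)
      · obtain ⟨hxJ, hyJ⟩ := hinvJ v hv x ((RefSystem.mem_inv _).2 ⟨h1, h2⟩)
        have hyJ' : inJRoot D A.J (hF.refSys.neg (v • x) : Fin D.nroots).val = true := by
          rw [inJRoot_iff] at hyJ ⊢
          refine fun j hj => (hyJ j hj).imp_right fun h0 => ?_
          show co D (D.neg _) j = 0
          rw [hF.co_neg _ (Fin.isLt _) j hj, h0, neg_zero]
        have hp := hdpos k _ ((hF.refSys.neg_mem _).2 h2) hyJ'
        rw [RefSystem.smul_neg, hF.refSys.neg_mem] at hp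
        exact ⟨⟨h1, hp⟩, hJR _ (hposJ x h1 hxJ)⟩
      · obtain ⟨h1, h2⟩ := (RefSystem.mem_inv _).1 (Finset.mem_filter.1 hy).1
        refine ⟨⟨(hkeep _ (Facts.InJ.inv hF hv) y h1 (hEJ y hy)).1, by rwa [smul_inv_smul]⟩, ?_⟩
        rw [← hevenJ v hv, smul_inv_smul]
        exact (Finset.mem_filter.1 hy).2
  have hdisj : Disjoint (hF.refSys.inv v) (E.image (fun y => v⁻¹ • y)) := by
    rw [Finset.disjoint_left]
    intro x hx hx'
    obtain ⟨y, hy, rfl⟩ := Finset.mem_image.1 hx'
    have := ((RefSystem.mem_inv _).1 hx).2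
    rw [smul_inv_smul] at this
    exact this ((RefSystem.mem_inv _).1 (Finset.mem_filter.1 hy).1).1
  rw [hset, Finset.card_union_of_disjoint hdisj,
    Finset.card_image_of_injective _ (MulAction.injective v⁻¹), add_comm]

include hF in
/-- The order of the centralizer of the torus involution of a bit vector. -/
theorem card_centralizer_sv [Fintype F] (hq : Odd (Fintype.card F)) {d0 : Fin 0 → ℕ}
    (K : KerCert (cartanSys D) d0) {rt : ℕ → ℕ → ℕ} (hrt : RefTab D rt) {cols : List (List ℤ)}
    (hD : Facts.okCoroot D = true) (hcols : okCols D cols = true) {A : Data}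
    (hA : okData D rt cols A = true) {T : List (List Bool × ℕ × ℕ)} (hT : okTable D A.b T = true)
    (hcard : T.length * polyEval 1 (dataPoly A) = hF.lenSum (List.range D.rank) 1) {degs : List ℕ}
    (hdeg : degs.length = D.rank)
    (hpoly : polyEqb (dataPoly A) (polyProd (degs.map polyGeom)) = true) (t : D.group F)
    (ht : (t : GL D.Idx F) = torus D F (sv D F A.b)) :
    Nat.card (Subgroup.centralizer ({t} : Set (D.group F))) =
      Fintype.card F ^ A.posR.length * (degs.map fun d => Fintype.card F ^ d - 1).prod := by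
  classical
  have h2 := two_ne_zero_of_odd hq
  have hinj := torusInj_of_cert (F := F) hF K
  have hq' : Nat.card F = Fintype.card F := Nat.card_eq_fintype_card
  have hfilt : ∀ L : List ℕ, (L.filter fun r => decide (torChar D (sv D F A.b) r = 1)) = L.filter (evenB D A.b) :=
    fun L => List.filter_congr fun r _ => by
      rw [Bool.eq_iff_iff, decide_eq_true_eq, torChar_sv_eq_one h2]
  have hH : Nat.card (hF.tsys F).H = (Fintype.card F - 1) ^ D.rank := by
    have h := hF.card_diagonal (F := F) K
    rw [Finset.univ_eq_empty, Finset.prod_empty, one_mul, hq'] at h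
    rw [hF.tsys_H, h]
  have hR : A.posR = (Facts.posL D).filter (evenB D A.b) := by
    simp only [okData, Bool.and_eq_true, beq_iff_eq] at hA
    exact hA.1.1.1.2
  have hsum := sum_fixT (F := F) hF hinj h2 hrt hD hcols hA hT hcard (Fintype.card F)
  rw [card_centralizer hF t _ ht, card_Cu hF _ hF.closedList_posL, hfilt, ← hR, hH, hq',
    ← Facts.pred_pow_mul_geom degs Fintype.card_pos, hdeg, mul_assoc]
  congr 2
  rw [Finset.sum_congr rfl (g := fun w => Fintype.card F ^ expR hF A.b w) fun w _ => by
    rw [card_Cu hF _ (TorusSys.closed_invList w), hfilt, length_filter_invList, hq'], hsum,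
    polyEqb_sound _ _ _ hpoly, polyEval_prod, List.map_map]
  simp only [Function.comp_def, polyEval_geom]

end Cfsg.Agent.Small.ChevInvol
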