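import Cfsg.Agent.Lib.Small.ChevInvol.Fast
import Cfsg.Agent.Lib.Lie.WeylE8
import Cfsg.Agent.Lib.Lie.TorusCerts

/-! Tables for the involution classes of the Chevalley group of type E8, checked by the kernel. -/

set_option autoImplicit false
set_option maxRecDepth 100000

namespace Cfsg.Agent.Small.ChevInvol

open Cfsg.Lie Cfsg.Agent.Lie

theorem fastTabE8 : FastTab chevE8 certE8 :=
  fastTab_of_checks factsE8 certE8_okShape (fun i hi => by
    have : i < 8 := hi
    interval_cases i
    · exact certE8_okRefl0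
    · exact certE8_okRefl1
    · exact certE8_okRefl2
    · exact certE8_okRefl3
    · exact certE8_okRefl4
    · exact certE8_okRefl5
    · exact certE8_okRefl6
    · exact certE8_okRefl7
  )

/-- Part of `orbitE8D`. -/
def orbitE8Dp0 : List (List Bool × ℕ × ℕ) := [
  ([false, true, true, false, false, false, false, false], 0, 0),
  ([true, true, true, false, false, false, false, false], 0, 0),
  ([true, true, false, false, false, false, false, false], 1, 2),
  ([true, true, false, true, false, false, false, false], 2, 3),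
  ([true, false, false, true, false, false, false, false], 3, 1),
  ([true, true, false, true, true, false, false, false], 3, 4),
  ([true, false, false, true, true, false, false, false], 4, 4),
  ([true, true, false, true, true, true, false, false], 5, 5),
  ([true, false, false, false, true, false, false, false], 6, 3),
  ([true, false, false, true, true, true, false, false], 6, 5),
  ([true, true, false, true, true, true, true, false], 7, 6),
  ([true, false, true, false, true, false, false, false], 8, 2),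
  ([true, false, false, false, true, true, false, false], 8, 5),
  ([true, false, false, true, true, true, true, false], 9, 6),
  ([true, true, false, true, true, true, true, true], 10, 7),
  ([false, false, true, false, true, false, false, false], 11, 0),
  ([true, false, true, false, true, true, false, false], 11, 5),
  ([true, false, false, false, false, true, false, false], 12, 4),
  ([true, false, false, false, true, true, true, false], 12, 6),
  ([true, false, false, true, true, true, true, true], 13, 7),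
  ([false, false, true, false, true, true, false, false], 15, 5),
  ([true, false, true, false, false, true, false, false], 16, 4),
  ([true, false, true, false, true, true, true, false], 16, 6),
  ([true, false, false, false, false, true, true, false], 17, 6)]

/-- Part of `orbitE8D`. -/
def orbitE8Dp1 : List (List Bool × ℕ × ℕ) := [
  ([true, false, false, false, true, true, true, true], 18, 7),
  ([false, false, true, false, false, true, false, false], 20, 4),
  ([false, false, true, false, true, true, true, false], 20, 6),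
  ([true, false, true, true, false, true, false, false], 21, 3),
  ([true, false, true, false, false, true, true, false], 21, 6),
  ([true, false, true, false, true, true, true, true], 22, 7),
  ([true, false, false, false, false, false, true, false], 23, 5),
  ([true, false, false, false, false, true, true, true], 23, 7),
  ([false, false, true, true, false, true, false, false], 25, 3),
  ([false, false, true, false, false, true, true, false], 25, 6),
  ([false, false, true, false, true, true, true, true], 26, 7),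
  ([true, true, true, true, false, true, false, false], 27, 1),
  ([true, false, true, true, false, true, true, false], 27, 6),
  ([true, false, true, false, false, false, true, false], 28, 5),
  ([true, false, true, false, false, true, true, true], 28, 7),
  ([true, false, false, false, false, false, true, true], 30, 7),
  ([false, true, true, true, false, true, false, false], 32, 1),
  ([false, false, false, true, false, true, false, false], 32, 2),
  ([false, false, true, true, false, true, true, false], 32, 6),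
  ([false, false, true, false, false, false, true, false], 33, 5),
  ([false, false, true, false, false, true, true, true], 33, 7),
  ([true, true, true, true, false, true, true, false], 35, 6),
  ([true, false, true, true, false, false, true, false], 36, 5),
  ([true, false, true, true, false, true, true, true], 36, 7)]

/-- Part of `orbitE8D`. -/
def orbitE8Dp2 : List (List Bool × ℕ × ℕ) := [
  ([true, false, true, false, false, false, true, true], 37, 7),
  ([true, false, false, false, false, false, false, true], 39, 6),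
  ([false, true, false, true, false, true, false, false], 40, 2),
  ([false, true, true, true, false, true, true, false], 40, 6),
  ([false, false, false, true, false, true, true, false], 41, 6),
  ([false, false, true, true, false, false, true, false], 42, 5),
  ([false, false, true, true, false, true, true, true], 42, 7),
  ([false, false, true, false, false, false, true, true], 43, 7),
  ([true, true, true, true, false, false, true, false], 45, 5),
  ([true, true, true, true, false, true, true, true], 45, 7),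
  ([true, false, true, true, true, false, true, false], 46, 4),
  ([true, false, true, true, false, false, true, true], 46, 7),
  ([true, false, true, false, false, false, false, true], 48, 6),
  ([false, true, false, false, false, true, false, false], 50, 3),
  ([false, true, false, true, false, true, true, false], 50, 6),
  ([false, true, true, true, false, false, true, false], 51, 5),
  ([false, true, true, true, false, true, true, true], 51, 7),
  ([false, false, false, true, false, false, true, false], 52, 5),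
  ([false, false, false, true, false, true, true, true], 52, 7),
  ([false, false, true, true, true, false, true, false], 53, 4),
  ([false, false, true, true, false, false, true, true], 53, 7),
  ([false, false, true, false, false, false, false, true], 55, 6),
  ([true, true, true, true, true, false, true, false], 56, 4),
  ([true, true, true, true, false, false, true, true], 56, 7)]

/-- Part of `orbitE8D`. -/
def orbitE8Dp3 : List (List Bool × ℕ × ℕ) := [
  ([true, false, true, true, true, false, true, true], 58, 7),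
  ([true, false, true, true, false, false, false, true], 59, 6),
  ([false, true, false, false, true, true, false, false], 61, 4),
  ([false, true, false, false, false, true, true, false], 61, 6),
  ([false, true, false, true, false, false, true, false], 62, 5),
  ([false, true, false, true, false, true, true, true], 62, 7),
  ([false, true, true, true, true, false, true, false], 63, 4),
  ([false, true, true, true, false, false, true, true], 63, 7),
  ([false, false, false, true, true, false, true, false], 65, 4),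
  ([false, false, false, true, false, false, true, true], 65, 7),
  ([false, false, true, true, true, false, true, true], 67, 7),
  ([false, false, true, true, false, false, false, true], 68, 6),
  ([true, true, true, false, true, false, true, false], 70, 3),
  ([true, true, true, true, true, false, true, true], 70, 7),
  ([true, true, true, true, false, false, false, true], 71, 6),
  ([true, false, true, true, true, false, false, true], 72, 6),
  ([false, true, false, false, true, false, false, false], 74, 5),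
  ([false, true, false, false, true, true, true, false], 74, 6),
  ([false, true, false, false, false, false, true, false], 75, 5),
  ([false, true, false, false, false, true, true, true], 75, 7),
  ([false, true, false, true, true, false, true, false], 76, 4),
  ([false, true, false, true, false, false, true, true], 76, 7),
  ([false, true, true, false, true, false, true, false], 78, 3),
  ([false, true, true, true, true, false, true, true], 78, 7)]

/-- Part of `orbitE8D`. -/
def orbitE8Dp4 : List (List Bool × ℕ × ℕ) := [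
  ([false, true, true, true, false, false, false, true], 79, 6),
  ([false, false, false, false, true, false, true, false], 80, 3),
  ([false, false, false, true, true, false, true, true], 80, 7),
  ([false, false, false, true, false, false, false, true], 81, 6),
  ([false, false, true, true, true, false, false, true], 82, 6),
  ([true, true, false, false, true, false, true, false], 84, 2),
  ([true, true, true, false, true, false, true, true], 84, 7),
  ([true, true, true, true, true, false, false, true], 85, 6),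
  ([true, false, true, true, true, true, false, true], 87, 5),
  ([false, true, false, false, true, true, true, true], 89, 7),
  ([false, true, false, false, false, false, true, true], 90, 7),
  ([false, true, false, true, true, false, true, true], 92, 7),
  ([false, true, false, true, false, false, false, true], 93, 6),
  ([false, true, true, false, true, false, true, true], 94, 7),
  ([false, true, true, true, true, false, false, true], 95, 6),
  ([false, false, false, false, true, false, true, true], 97, 7),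
  ([false, false, false, true, true, false, false, true], 98, 6),
  ([false, false, true, true, true, true, false, true], 100, 5),
  ([true, true, false, false, true, false, true, true], 101, 7),
  ([true, true, true, false, true, false, false, true], 102, 6),
  ([true, true, true, true, true, true, false, true], 103, 5),
  ([false, true, false, false, false, false, false, true], 106, 6),
  ([false, true, false, true, true, false, false, true], 107, 6),
  ([false, true, true, false, true, false, false, true], 109, 6)]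

/-- Part of `orbitE8D`. -/
def orbitE8Dp5 : List (List Bool × ℕ × ℕ) := [
  ([false, true, true, true, true, true, false, true], 110, 5),
  ([false, false, false, false, true, false, false, true], 111, 6),
  ([false, false, false, true, true, true, false, true], 112, 5),
  ([true, true, false, false, true, false, false, true], 114, 6),
  ([true, true, true, false, true, true, false, true], 115, 5),
  ([false, true, false, true, true, true, false, true], 118, 5),
  ([false, true, true, false, true, true, false, true], 119, 5),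
  ([false, false, false, false, true, true, false, true], 121, 5),
  ([true, true, false, false, true, true, false, true], 123, 5),
  ([true, true, true, false, false, true, false, true], 124, 4),
  ([false, true, true, false, false, true, false, true], 126, 4),
  ([false, false, false, false, false, true, false, true], 127, 4),
  ([true, true, false, false, false, true, false, true], 128, 4),
  ([true, true, false, true, false, true, false, true], 132, 3),
  ([true, false, false, true, false, true, false, true], 133, 1)]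

/-- orbitE8D -/
def orbitE8D : List (List Bool × ℕ × ℕ) :=
  orbitE8Dp0 ++
  orbitE8Dp1 ++
  orbitE8Dp2 ++
  orbitE8Dp3 ++
  orbitE8Dp4 ++
  orbitE8Dp5

theorem okOrbitE8D : okTable chevE8 [false, true, true, false, false, false, false, false] orbitE8D = true :=
  okTable_of_C factsE8 fastTabE8 (c := certE8) (by decide +kernel)

/-- Part of `chainE8D_7orb`. -/
def chainE8D_7orbp0 : List (List ℤ × ℕ × List ℕ) := [
  ([0, 0, 0, 0, 0, 0, 0, 1], 0, [0, 0, 0, 0, 0, 0, 1]),
  ([0, 0, 0, 0, 0, 0, 1, -1], 1, [1, 1, 1, 1, 1, 2, 0]),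
  ([0, 0, 0, 0, 0, 1, -1, 0], 2, [2, 2, 2, 2, 3, 1, 2]),
  ([0, 0, 0, 0, 1, -1, 0, 0], 3, [3, 3, 3, 4, 2, 3, 3]),
  ([0, 0, 0, 1, -1, 0, 0, 0], 4, [4, 4, 5, 3, 4, 4, 4]),
  ([0, 1, 1, -1, 0, 0, 0, 0], 5, [6, 7, 4, 5, 5, 5, 5]),
  ([0, -1, 1, 0, 0, 0, 0, 0], 6, [5, 8, 6, 6, 6, 6, 6]),
  ([1, 1, -1, 0, 0, 0, 0, 0], 6, [8, 5, 7, 7, 7, 7, 7]),
  ([1, -1, -1, 1, 0, 0, 0, 0], 7, [7, 6, 9, 8, 8, 8, 8]),
  ([1, 0, 0, -1, 1, 0, 0, 0], 8, [9, 9, 8, 10, 9, 9, 9]),
  ([1, 0, 0, 0, -1, 1, 0, 0], 9, [10, 10, 10, 9, 11, 10, 10]),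
  ([1, 0, 0, 0, 0, -1, 1, 0], 10, [11, 11, 11, 11, 10, 12, 11]),
  ([1, 0, 0, 0, 0, 0, -1, 1], 11, [12, 12, 12, 12, 12, 11, 13]),
  ([1, 0, 0, 0, 0, 0, 0, -1], 12, [13, 13, 13, 13, 13, 13, 12])]

/-- chainE8D_7orb -/
def chainE8D_7orb : List (List ℤ × ℕ × List ℕ) :=
  chainE8D_7orbp0

/-- Orbit step. -/
def chainE8D_7 : OrbitStep := ⟨7, chainE8D_7orb⟩

/-- Part of `chainE8D_6orb`. -/
def chainE8D_6orbp0 : List (List ℤ × ℕ × List ℕ) := [
  ([0, 0, 0, 0, 0, 0, 1, 0], 0, [0, 0, 0, 0, 0, 1]),
  ([0, 0, 0, 0, 0, 1, -1, 1], 1, [1, 1, 1, 1, 2, 0]),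
  ([0, 0, 0, 0, 1, -1, 0, 1], 2, [2, 2, 2, 3, 1, 2]),
  ([0, 0, 0, 1, -1, 0, 0, 1], 3, [3, 3, 4, 2, 3, 3]),
  ([0, 1, 1, -1, 0, 0, 0, 1], 4, [5, 6, 3, 4, 4, 4]),
  ([0, -1, 1, 0, 0, 0, 0, 1], 5, [4, 7, 5, 5, 5, 5]),
  ([1, 1, -1, 0, 0, 0, 0, 1], 5, [7, 4, 6, 6, 6, 6]),
  ([1, -1, -1, 1, 0, 0, 0, 1], 6, [6, 5, 8, 7, 7, 7]),
  ([1, 0, 0, -1, 1, 0, 0, 1], 7, [8, 8, 7, 9, 8, 8]),
  ([1, 0, 0, 0, -1, 1, 0, 1], 8, [9, 9, 9, 8, 10, 9]),
  ([1, 0, 0, 0, 0, -1, 1, 1], 9, [10, 10, 10, 10, 9, 11]),
  ([1, 0, 0, 0, 0, 0, -1, 2], 10, [11, 11, 11, 11, 11, 10])]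

/-- chainE8D_6orb -/
def chainE8D_6orb : List (List ℤ × ℕ × List ℕ) :=
  chainE8D_6orbp0

/-- Orbit step. -/
def chainE8D_6 : OrbitStep := ⟨6, chainE8D_6orb⟩

/-- Part of `chainE8D_5orb`. -/
def chainE8D_5orbp0 : List (List ℤ × ℕ × List ℕ) := [
  ([0, 0, 0, 0, 0, 1, 0, 0], 0, [0, 0, 0, 0, 1]),
  ([0, 0, 0, 0, 1, -1, 1, 0], 1, [1, 1, 1, 2, 0]),
  ([0, 0, 0, 1, -1, 0, 1, 0], 2, [2, 2, 3, 1, 2]),
  ([0, 1, 1, -1, 0, 0, 1, 0], 3, [4, 5, 2, 3, 3]),
  ([0, -1, 1, 0, 0, 0, 1, 0], 4, [3, 6, 4, 4, 4]),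
  ([1, 1, -1, 0, 0, 0, 1, 0], 4, [6, 3, 5, 5, 5]),
  ([1, -1, -1, 1, 0, 0, 1, 0], 5, [5, 4, 7, 6, 6]),
  ([1, 0, 0, -1, 1, 0, 1, 0], 6, [7, 7, 6, 8, 7]),
  ([1, 0, 0, 0, -1, 1, 1, 0], 7, [8, 8, 8, 7, 9]),
  ([1, 0, 0, 0, 0, -1, 2, 0], 8, [9, 9, 9, 9, 8])]

/-- chainE8D_5orb -/
def chainE8D_5orb : List (List ℤ × ℕ × List ℕ) :=
  chainE8D_5orbp0

/-- Orbit step. -/
def chainE8D_5 : OrbitStep := ⟨5, chainE8D_5orb⟩

/-- Part of `chainE8D_4orb`. -/
def chainE8D_4orbp0 : List (List ℤ × ℕ × List ℕ) := [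
  ([0, 0, 0, 0, 1, 0, 0, 0], 0, [0, 0, 0, 1]),
  ([0, 0, 0, 1, -1, 1, 0, 0], 1, [1, 1, 2, 0]),
  ([0, 1, 1, -1, 0, 1, 0, 0], 2, [3, 4, 1, 2]),
  ([0, -1, 1, 0, 0, 1, 0, 0], 3, [2, 5, 3, 3]),
  ([1, 1, -1, 0, 0, 1, 0, 0], 3, [5, 2, 4, 4]),
  ([1, -1, -1, 1, 0, 1, 0, 0], 4, [4, 3, 6, 5]),
  ([1, 0, 0, -1, 1, 1, 0, 0], 5, [6, 6, 5, 7]),
  ([1, 0, 0, 0, -1, 2, 0, 0], 6, [7, 7, 7, 6])]

/-- chainE8D_4orb -/
def chainE8D_4orb : List (List ℤ × ℕ × List ℕ) :=
  chainE8D_4orbp0

/-- Orbit step. -/
def chainE8D_4 : OrbitStep := ⟨4, chainE8D_4orb⟩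

/-- Part of `chainE8D_3orb`. -/
def chainE8D_3orbp0 : List (List ℤ × ℕ × List ℕ) := [
  ([0, 0, 0, 1, 0, 0, 0, 0], 0, [0, 0, 1]),
  ([0, 1, 1, -1, 1, 0, 0, 0], 1, [2, 3, 0]),
  ([0, -1, 1, 0, 1, 0, 0, 0], 2, [1, 4, 2]),
  ([1, 1, -1, 0, 1, 0, 0, 0], 2, [4, 1, 3]),
  ([1, -1, -1, 1, 1, 0, 0, 0], 3, [3, 2, 5]),
  ([1, 0, 0, -1, 2, 0, 0, 0], 4, [5, 5, 4])]

/-- chainE8D_3orb -/
def chainE8D_3orb : List (List ℤ × ℕ × List ℕ) :=
  chainE8D_3orbp0

/-- Orbit step. -/
def chainE8D_3 : OrbitStep := ⟨3, chainE8D_3orb⟩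

/-- Part of `chainE8D_2orb`. -/
def chainE8D_2orbp0 : List (List ℤ × ℕ × List ℕ) := [
  ([0, 0, 1, 0, 0, 0, 0, 0], 0, [0, 1]),
  ([1, 0, -1, 1, 0, 0, 0, 0], 1, [1, 0])]

/-- chainE8D_2orb -/
def chainE8D_2orb : List (List ℤ × ℕ × List ℕ) :=
  chainE8D_2orbp0

/-- Orbit step. -/
def chainE8D_2 : OrbitStep := ⟨2, chainE8D_2orb⟩

/-- Part of `chainE8D_1orb`. -/
def chainE8D_1orbp0 : List (List ℤ × ℕ × List ℕ) := [
  ([0, 1, 0, 0, 0, 0, 0, 0], 0, [1]),
  ([0, -1, 0, 1, 0, 0, 0, 0], 1, [0])]

/-- chainE8D_1orb -/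
def chainE8D_1orb : List (List ℤ × ℕ × List ℕ) :=
  chainE8D_1orbp0

/-- Orbit step. -/
def chainE8D_1 : OrbitStep := ⟨1, chainE8D_1orb⟩

/-- Stabiliser data. -/
def dataE8D : Data where
  b := [false, true, true, false, false, false, false, false]
  J := [1, 2, 3, 4, 5, 6, 7]
  reps := [
    ([], 0),
    ([0, 2, 3, 4, 5, 1, 3, 4, 2, 3, 0, 2, 1, 3, 4, 5, 6, 5, 4, 3, 2, 1, 3, 4, 5, 0, 2, 3, 4, 1, 3, 2, 0], 1),
    ([7, 0, 2, 3, 4, 5, 1, 3, 4, 2, 3, 0, 2, 1, 3, 4, 5, 6, 5, 4, 3, 2, 1, 3, 4, 5, 0, 2, 3, 4, 1, 3, 2, 0], 2),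
    ([6, 7, 0, 2, 3, 4, 5, 1, 3, 4, 2, 3, 0, 2, 1, 3, 4, 5, 6, 5, 4, 3, 2, 1, 3, 4, 5, 0, 2, 3, 4, 1, 3, 2, 0], 3),
    ([5, 6, 7, 0, 2, 3, 4, 5, 1, 3, 4, 2, 3, 0, 2, 1, 3, 4, 5, 6, 5, 4, 3, 2, 1, 3, 4, 5, 0, 2, 3, 4, 1, 3, 2, 0], 4),
    ([4, 5, 6, 7, 0, 2, 3, 4, 5, 1, 3, 4, 2, 3, 0, 2, 1, 3, 4, 5, 6, 5, 4, 3, 2, 1, 3, 4, 5, 0, 2, 3, 4, 1, 3, 2, 0], 5),
    ([3, 4, 5, 6, 7, 0, 2, 3, 4, 5, 1, 3, 4, 2, 3, 0, 2, 1, 3, 4, 5, 6, 5, 4, 3, 2, 1, 3, 4, 5, 0, 2, 3, 4, 1, 3, 2, 0], 6),
    ([2, 3, 4, 5, 6, 7, 0, 2, 3, 4, 5, 1, 3, 4, 2, 3, 0, 2, 1, 3, 4, 5, 6, 5, 4, 3, 2, 1, 3, 4, 5, 0, 2, 3, 4, 1, 3, 2, 0], 7),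
    ([1, 3, 4, 5, 6, 7, 0, 2, 3, 4, 5, 1, 3, 4, 2, 3, 0, 2, 1, 3, 4, 5, 6, 5, 4, 3, 2, 1, 3, 4, 5, 0, 2, 3, 4, 1, 3, 2, 0], 7),
    ([2, 1, 3, 4, 5, 6, 7, 0, 2, 3, 4, 5, 1, 3, 4, 2, 3, 0, 2, 1, 3, 4, 5, 6, 5, 4, 3, 2, 1, 3, 4, 5, 0, 2, 3, 4, 1, 3, 2, 0], 8),
    ([3, 2, 1, 3, 4, 5, 6, 7, 0, 2, 3, 4, 5, 1, 3, 4, 2, 3, 0, 2, 1, 3, 4, 5, 6, 5, 4, 3, 2, 1, 3, 4, 5, 0, 2, 3, 4, 1, 3, 2, 0], 9),
    ([4, 3, 2, 1, 3, 4, 5, 6, 7, 0, 2, 3, 4, 5, 1, 3, 4, 2, 3, 0, 2, 1, 3, 4, 5, 6, 5, 4, 3, 2, 1, 3, 4, 5, 0, 2, 3, 4, 1, 3, 2, 0], 10),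
    ([5, 4, 3, 2, 1, 3, 4, 5, 6, 7, 0, 2, 3, 4, 5, 1, 3, 4, 2, 3, 0, 2, 1, 3, 4, 5, 6, 5, 4, 3, 2, 1, 3, 4, 5, 0, 2, 3, 4, 1, 3, 2, 0], 11),
    ([6, 5, 4, 3, 2, 1, 3, 4, 5, 6, 7, 0, 2, 3, 4, 5, 1, 3, 4, 2, 3, 0, 2, 1, 3, 4, 5, 6, 5, 4, 3, 2, 1, 3, 4, 5, 0, 2, 3, 4, 1, 3, 2, 0], 12),
    ([7, 6, 5, 4, 3, 2, 1, 3, 4, 5, 6, 7, 0, 2, 3, 4, 5, 1, 3, 4, 2, 3, 0, 2, 1, 3, 4, 5, 6, 5, 4, 3, 2, 1, 3, 4, 5, 0, 2, 3, 4, 1, 3, 2, 0], 13),
    ([0, 2, 3, 4, 5, 1, 3, 4, 2, 3, 0, 2, 1, 3, 4, 5, 6, 7, 5, 4, 3, 2, 1, 3, 4, 5, 6, 0, 2, 3, 4, 5, 1, 3, 4, 2, 3, 0, 2, 1, 3, 4, 5, 6, 7, 0, 2, 3, 4, 5, 1, 3, 4, 2, 3, 0, 2, 1, 3, 4, 5, 6, 5, 4, 3, 2, 1, 3, 4, 5, 0, 2, 3, 4, 1, 3, 2, 0], 14)]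
  posJ := [120, 121, 122, 123, 124, 125, 126, 127, 128, 129, 130, 131, 132, 133, 134, 135, 136, 137, 138, 139, 140, 141, 142, 143, 144, 145, 146, 147, 148, 149, 150, 151, 152, 153, 154, 155, 156, 157, 158, 159, 160, 161]
  posR := [120, 121, 122, 123, 124, 125, 126, 127, 128, 129, 130, 131, 132, 133, 134, 135, 136, 137, 138, 139, 140, 141, 142, 143, 144, 145, 146, 147, 148, 149, 150, 151, 152, 153, 154, 155, 156, 157, 158, 159, 160, 161, 226, 227, 228, 229, 230, 231, 232, 233, 234, 235, 236, 237, 238, 239]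
  chain := [chainE8D_7, chainE8D_6, chainE8D_5, chainE8D_4, chainE8D_3, chainE8D_2, chainE8D_1]

theorem okDataE8D : okData chevE8 certE8.cR colsE8 dataE8D = true :=
  okData_of_C factsE8 fastTabE8 (by decide +kernel)

theorem polyDataE8D : polyEqb (dataPoly dataE8D) (polyProd (([2, 4, 6, 8, 8, 10, 12, 14] : List ℕ).map polyGeom)) = true := by decide +kernel

theorem cardDataE8D : orbitE8D.length * polyEval 1 (dataPoly dataE8D) = factsE8.lenSum (List.range chevE8.rank) 1 := by
  rw [lenSumE8]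
  decide +kernel

/-- Part of `orbitE8E`. -/
def orbitE8Ep0 : List (List Bool × ℕ × ℕ) := [
  ([false, true, false, false, true, false, true, false], 0, 0),
  ([false, true, false, false, true, false, true, true], 0, 7),
  ([false, true, false, false, true, false, false, true], 1, 6),
  ([false, true, false, false, true, true, false, true], 2, 5),
  ([false, true, false, false, false, true, false, true], 3, 4),
  ([false, true, false, true, false, true, false, true], 4, 3),
  ([false, false, false, true, false, true, false, true], 5, 1),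
  ([false, true, true, true, false, true, false, true], 5, 2),
  ([false, false, true, true, false, true, false, true], 6, 2),
  ([true, true, true, true, false, true, false, true], 7, 0),
  ([true, false, true, true, false, true, false, true], 8, 0),
  ([false, false, true, false, false, true, false, true], 8, 3),
  ([true, false, true, false, false, true, false, true], 10, 3),
  ([false, false, true, false, true, true, false, true], 11, 4),
  ([true, false, false, false, false, true, false, true], 12, 2),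
  ([true, false, true, false, true, true, false, true], 12, 4),
  ([false, false, true, false, true, false, false, true], 13, 5),
  ([true, false, false, false, true, true, false, true], 14, 4),
  ([true, false, true, false, true, false, false, true], 15, 5),
  ([false, false, true, false, true, false, true, true], 16, 6),
  ([true, false, false, true, true, true, false, true], 17, 3),
  ([true, false, false, false, true, false, false, true], 17, 5),
  ([true, false, true, false, true, false, true, true], 18, 6),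
  ([false, false, true, false, true, false, true, false], 19, 7)]

/-- Part of `orbitE8E`. -/
def orbitE8Ep1 : List (List Bool × ℕ × ℕ) := [
  ([true, true, false, true, true, true, false, true], 20, 1),
  ([true, false, false, true, true, false, false, true], 20, 5),
  ([true, false, false, false, true, false, true, true], 21, 6),
  ([true, false, true, false, true, false, true, false], 22, 7),
  ([true, true, false, true, true, false, false, true], 24, 5),
  ([true, false, false, true, false, false, false, true], 25, 4),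
  ([true, false, false, true, true, false, true, true], 25, 6),
  ([true, false, false, false, true, false, true, false], 26, 7),
  ([true, true, false, true, false, false, false, true], 28, 4),
  ([true, true, false, true, true, false, true, true], 28, 6),
  ([true, false, false, true, false, false, true, true], 29, 6),
  ([true, false, false, true, true, false, true, false], 30, 7),
  ([true, true, false, false, false, false, false, true], 32, 3),
  ([true, true, false, true, false, false, true, true], 32, 6),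
  ([true, true, false, true, true, false, true, false], 33, 7),
  ([true, false, false, true, false, true, true, true], 34, 5),
  ([true, false, false, true, false, false, true, false], 34, 7),
  ([true, true, true, false, false, false, false, true], 36, 2),
  ([true, true, false, false, false, false, true, true], 36, 6),
  ([true, true, false, true, false, true, true, true], 37, 5),
  ([true, true, false, true, false, false, true, false], 37, 7),
  ([true, false, false, true, false, true, true, false], 39, 7),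
  ([false, true, true, false, false, false, false, true], 41, 0),
  ([true, true, true, false, false, false, true, true], 41, 6)]

/-- Part of `orbitE8E`. -/
def orbitE8Ep2 : List (List Bool × ℕ × ℕ) := [
  ([true, true, false, false, false, true, true, true], 42, 5),
  ([true, true, false, false, false, false, true, false], 42, 7),
  ([true, true, false, true, false, true, true, false], 43, 7),
  ([true, false, false, true, false, true, false, false], 45, 6),
  ([false, true, true, false, false, false, true, true], 46, 6),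
  ([true, true, true, false, false, true, true, true], 47, 5),
  ([true, true, true, false, false, false, true, false], 47, 7),
  ([true, true, false, false, true, true, true, true], 48, 4),
  ([true, true, false, false, false, true, true, false], 48, 7),
  ([true, true, false, true, false, true, false, false], 50, 6),
  ([false, true, true, false, false, true, true, true], 52, 5),
  ([false, true, true, false, false, false, true, false], 52, 7),
  ([true, true, true, false, true, true, true, true], 53, 4),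
  ([true, true, true, false, false, true, true, false], 53, 7),
  ([true, true, false, false, true, true, true, false], 55, 7),
  ([true, true, false, false, false, true, false, false], 56, 6),
  ([false, true, true, false, true, true, true, true], 58, 4),
  ([false, true, true, false, false, true, true, false], 58, 7),
  ([true, true, true, true, true, true, true, true], 60, 3),
  ([true, true, true, false, true, true, true, false], 60, 7),
  ([true, true, true, false, false, true, false, false], 61, 6),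
  ([true, true, false, false, true, true, false, false], 62, 6),
  ([false, true, true, true, true, true, true, true], 64, 3),
  ([false, true, true, false, true, true, true, false], 64, 7)]

/-- Part of `orbitE8E`. -/
def orbitE8Ep3 : List (List Bool × ℕ × ℕ) := [
  ([false, true, true, false, false, true, false, false], 65, 6),
  ([true, false, true, true, true, true, true, true], 66, 1),
  ([true, true, true, true, true, true, true, false], 66, 7),
  ([true, true, true, false, true, true, false, false], 67, 6),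
  ([true, true, false, false, true, false, false, false], 69, 5),
  ([false, false, true, true, true, true, true, true], 70, 1),
  ([false, true, false, true, true, true, true, true], 70, 2),
  ([false, true, true, true, true, true, true, false], 70, 7),
  ([false, true, true, false, true, true, false, false], 71, 6),
  ([true, false, true, true, true, true, true, false], 73, 7),
  ([true, true, true, true, true, true, false, false], 74, 6),
  ([true, true, true, false, true, false, false, false], 75, 5),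
  ([false, false, false, true, true, true, true, true], 77, 2),
  ([false, false, true, true, true, true, true, false], 77, 7),
  ([false, true, false, true, true, true, true, false], 78, 7),
  ([false, true, true, true, true, true, false, false], 79, 6),
  ([false, true, true, false, true, false, false, false], 80, 5),
  ([true, false, true, true, true, true, false, false], 81, 6),
  ([true, true, true, true, true, false, false, false], 82, 5),
  ([false, false, false, false, true, true, true, true], 84, 3),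
  ([false, false, false, true, true, true, true, false], 84, 7),
  ([false, false, true, true, true, true, false, false], 85, 6),
  ([false, true, false, true, true, true, false, false], 86, 6),
  ([false, true, true, true, true, false, false, false], 87, 5)]

/-- Part of `orbitE8E`. -/
def orbitE8Ep4 : List (List Bool × ℕ × ℕ) := [
  ([true, false, true, true, true, false, false, false], 89, 5),
  ([true, true, true, true, false, false, false, false], 90, 4),
  ([false, false, false, false, false, true, true, true], 91, 4),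
  ([false, false, false, false, true, true, true, false], 91, 7),
  ([false, false, false, true, true, true, false, false], 92, 6),
  ([false, false, true, true, true, false, false, false], 93, 5),
  ([false, true, false, true, true, false, false, false], 94, 5),
  ([false, true, true, true, false, false, false, false], 95, 4),
  ([true, false, true, true, false, false, false, false], 96, 4),
  ([false, false, false, false, false, false, true, true], 98, 5),
  ([false, false, false, false, false, true, true, false], 98, 7),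
  ([false, false, false, false, true, true, false, false], 99, 6),
  ([false, false, false, true, true, false, false, false], 100, 5),
  ([false, false, true, true, false, false, false, false], 101, 4),
  ([false, true, false, true, false, false, false, false], 102, 4),
  ([true, false, true, false, false, false, false, false], 104, 3),
  ([false, false, false, false, false, false, false, true], 105, 6),
  ([false, false, false, false, false, false, true, false], 105, 7),
  ([false, false, false, false, false, true, false, false], 106, 6),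
  ([false, false, false, false, true, false, false, false], 107, 5),
  ([false, false, false, true, false, false, false, false], 108, 4),
  ([false, false, true, false, false, false, false, false], 109, 3),
  ([false, true, false, false, false, false, false, false], 110, 3),
  ([true, false, false, false, false, false, false, false], 111, 2)]

/-- orbitE8E -/
def orbitE8E : List (List Bool × ℕ × ℕ) :=
  orbitE8Ep0 ++
  orbitE8Ep1 ++
  orbitE8Ep2 ++
  orbitE8Ep3 ++
  orbitE8Ep4

theorem okOrbitE8E : okTable chevE8 [false, true, false, false, true, false, true, false] orbitE8E = true :=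
  okTable_of_C factsE8 fastTabE8 (c := certE8) (by decide +kernel)

/-- Part of `chainE8E_6orb`. -/
def chainE8E_6orbp0 : List (List ℤ × ℕ × List ℕ) := [
  ([0, 0, 0, 0, 0, 0, 1, 0], 0, [0, 0, 0, 0, 0, 0, 1]),
  ([0, 0, 0, 0, 0, 1, -1, 1], 1, [1, 1, 1, 1, 1, 2, 0]),
  ([0, 0, 0, 0, 1, -1, 0, 1], 2, [2, 2, 2, 2, 3, 1, 2]),
  ([0, 0, 0, 1, -1, 0, 0, 1], 3, [3, 3, 3, 4, 2, 3, 3]),
  ([0, 1, 1, -1, 0, 0, 0, 1], 4, [4, 5, 6, 3, 4, 4, 4]),
  ([0, -1, 1, 0, 0, 0, 0, 1], 5, [5, 4, 7, 5, 5, 5, 5]),
  ([1, 1, -1, 0, 0, 0, 0, 1], 5, [8, 7, 4, 6, 6, 6, 6]),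
  ([1, -1, -1, 1, 0, 0, 0, 1], 6, [9, 6, 5, 10, 7, 7, 7]),
  ([-1, 1, 0, 0, 0, 0, 0, 1], 6, [6, 9, 8, 8, 8, 8, 8]),
  ([-1, -1, 0, 1, 0, 0, 0, 1], 7, [7, 8, 9, 11, 9, 9, 9]),
  ([1, 0, 0, -1, 1, 0, 0, 1], 7, [11, 10, 10, 7, 12, 10, 10]),
  ([-1, 0, 1, -1, 1, 0, 0, 1], 8, [10, 11, 13, 9, 14, 11, 11]),
  ([1, 0, 0, 0, -1, 1, 0, 1], 8, [14, 12, 12, 12, 10, 15, 12]),
  ([0, 0, -1, 0, 1, 0, 0, 1], 9, [13, 13, 11, 13, 16, 13, 13]),
  ([-1, 0, 1, 0, -1, 1, 0, 1], 9, [12, 14, 16, 14, 11, 17, 14]),
  ([1, 0, 0, 0, 0, -1, 1, 1], 9, [17, 15, 15, 15, 15, 12, 18]),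
  ([0, 0, -1, 1, -1, 1, 0, 1], 10, [16, 16, 14, 19, 13, 20, 16]),
  ([-1, 0, 1, 0, 0, -1, 1, 1], 10, [15, 17, 20, 17, 17, 14, 21]),
  ([1, 0, 0, 0, 0, 0, -1, 2], 10, [21, 18, 18, 18, 18, 18, 15]),
  ([0, 1, 0, -1, 0, 1, 0, 1], 11, [19, 22, 19, 16, 19, 23, 19]),
  ([0, 0, -1, 1, 0, -1, 1, 1], 11, [20, 20, 17, 23, 20, 16, 24]),
  ([-1, 0, 1, 0, 0, 0, -1, 2], 11, [18, 21, 24, 21, 21, 21, 17]),
  ([0, -1, 0, 0, 0, 1, 0, 1], 12, [22, 19, 22, 22, 22, 25, 22]),
  ([0, 1, 0, -1, 1, -1, 1, 1], 12, [23, 25, 23, 20, 26, 19, 27])]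

/-- Part of `chainE8E_6orb`. -/
def chainE8E_6orbp1 : List (List ℤ × ℕ × List ℕ) := [
  ([0, 0, -1, 1, 0, 0, -1, 2], 12, [24, 24, 21, 27, 24, 24, 20]),
  ([0, -1, 0, 0, 1, -1, 1, 1], 13, [25, 23, 25, 25, 28, 22, 29]),
  ([0, 1, 0, 0, -1, 0, 1, 1], 13, [26, 28, 26, 26, 23, 26, 30]),
  ([0, 1, 0, -1, 1, 0, -1, 2], 13, [27, 29, 27, 24, 30, 27, 23]),
  ([0, -1, 0, 1, -1, 0, 1, 1], 14, [28, 26, 28, 31, 25, 28, 32]),
  ([0, -1, 0, 0, 1, 0, -1, 2], 14, [29, 27, 29, 29, 32, 29, 25]),
  ([0, 1, 0, 0, -1, 1, -1, 2], 14, [30, 32, 30, 30, 27, 33, 26]),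
  ([0, 0, 1, -1, 0, 0, 1, 1], 15, [31, 31, 34, 28, 31, 31, 35]),
  ([0, -1, 0, 1, -1, 1, -1, 2], 15, [32, 30, 32, 35, 29, 36, 28]),
  ([0, 1, 0, 0, 0, -1, 0, 2], 15, [33, 36, 33, 33, 33, 30, 33]),
  ([1, 0, -1, 0, 0, 0, 1, 1], 16, [37, 34, 31, 34, 34, 34, 38]),
  ([0, 0, 1, -1, 0, 1, -1, 2], 16, [35, 35, 38, 32, 35, 39, 31]),
  ([0, -1, 0, 1, 0, -1, 0, 2], 16, [36, 33, 36, 39, 36, 32, 36]),
  ([-1, 0, 0, 0, 0, 0, 1, 1], 17, [34, 37, 37, 37, 37, 37, 40]),
  ([1, 0, -1, 0, 0, 1, -1, 2], 17, [40, 38, 35, 38, 38, 41, 34]),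
  ([0, 0, 1, -1, 1, -1, 0, 2], 17, [39, 39, 41, 36, 42, 35, 39]),
  ([-1, 0, 0, 0, 0, 1, -1, 2], 18, [38, 40, 40, 40, 40, 43, 37]),
  ([1, 0, -1, 0, 1, -1, 0, 2], 18, [43, 41, 39, 41, 44, 38, 41]),
  ([0, 0, 1, 0, -1, 0, 0, 2], 18, [42, 42, 44, 42, 39, 42, 42]),
  ([-1, 0, 0, 0, 1, -1, 0, 2], 19, [41, 43, 43, 43, 45, 40, 43]),
  ([1, 0, -1, 1, -1, 0, 0, 2], 19, [45, 44, 42, 46, 41, 44, 44]),
  ([-1, 0, 0, 1, -1, 0, 0, 2], 20, [44, 45, 45, 47, 43, 45, 45]),
  ([1, 1, 0, -1, 0, 0, 0, 2], 20, [47, 48, 46, 44, 46, 46, 46]),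
  ([-1, 1, 1, -1, 0, 0, 0, 2], 21, [46, 49, 50, 45, 47, 47, 47])]

/-- Part of `chainE8E_6orb`. -/
def chainE8E_6orbp2 : List (List ℤ × ℕ × List ℕ) := [
  ([1, -1, 0, 0, 0, 0, 0, 2], 21, [49, 46, 48, 48, 48, 48, 48]),
  ([-1, -1, 1, 0, 0, 0, 0, 2], 22, [48, 47, 51, 49, 49, 49, 49]),
  ([0, 1, -1, 0, 0, 0, 0, 2], 22, [50, 51, 47, 50, 50, 50, 50]),
  ([0, -1, -1, 1, 0, 0, 0, 2], 23, [51, 50, 49, 52, 51, 51, 51]),
  ([0, 0, 0, -1, 1, 0, 0, 2], 24, [52, 52, 52, 51, 53, 52, 52]),
  ([0, 0, 0, 0, -1, 1, 0, 2], 25, [53, 53, 53, 53, 52, 54, 53]),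
  ([0, 0, 0, 0, 0, -1, 1, 2], 26, [54, 54, 54, 54, 54, 53, 55]),
  ([0, 0, 0, 0, 0, 0, -1, 3], 27, [55, 55, 55, 55, 55, 55, 54])]

/-- chainE8E_6orb -/
def chainE8E_6orb : List (List ℤ × ℕ × List ℕ) :=
  chainE8E_6orbp0 ++
  chainE8E_6orbp1 ++
  chainE8E_6orbp2

/-- Orbit step. -/
def chainE8E_6 : OrbitStep := ⟨6, chainE8E_6orb⟩

/-- Part of `chainE8E_5orb`. -/
def chainE8E_5orbp0 : List (List ℤ × ℕ × List ℕ) := [
  ([0, 0, 0, 0, 0, 1, 0, 0], 0, [0, 0, 0, 0, 0, 1]),
  ([0, 0, 0, 0, 1, -1, 1, 0], 1, [1, 1, 1, 1, 2, 0]),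
  ([0, 0, 0, 1, -1, 0, 1, 0], 2, [2, 2, 2, 3, 1, 2]),
  ([0, 1, 1, -1, 0, 0, 1, 0], 3, [3, 4, 5, 2, 3, 3]),
  ([0, -1, 1, 0, 0, 0, 1, 0], 4, [4, 3, 6, 4, 4, 4]),
  ([1, 1, -1, 0, 0, 0, 1, 0], 4, [7, 6, 3, 5, 5, 5]),
  ([1, -1, -1, 1, 0, 0, 1, 0], 5, [8, 5, 4, 9, 6, 6]),
  ([-1, 1, 0, 0, 0, 0, 1, 0], 5, [5, 8, 7, 7, 7, 7]),
  ([-1, -1, 0, 1, 0, 0, 1, 0], 6, [6, 7, 8, 10, 8, 8]),
  ([1, 0, 0, -1, 1, 0, 1, 0], 6, [10, 9, 9, 6, 11, 9]),
  ([-1, 0, 1, -1, 1, 0, 1, 0], 7, [9, 10, 12, 8, 13, 10]),
  ([1, 0, 0, 0, -1, 1, 1, 0], 7, [13, 11, 11, 11, 9, 14]),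
  ([0, 0, -1, 0, 1, 0, 1, 0], 8, [12, 12, 10, 12, 15, 12]),
  ([-1, 0, 1, 0, -1, 1, 1, 0], 8, [11, 13, 15, 13, 10, 16]),
  ([1, 0, 0, 0, 0, -1, 2, 0], 8, [16, 14, 14, 14, 14, 11]),
  ([0, 0, -1, 1, -1, 1, 1, 0], 9, [15, 15, 13, 17, 12, 18]),
  ([-1, 0, 1, 0, 0, -1, 2, 0], 9, [14, 16, 18, 16, 16, 13]),
  ([0, 1, 0, -1, 0, 1, 1, 0], 10, [17, 19, 17, 15, 17, 20]),
  ([0, 0, -1, 1, 0, -1, 2, 0], 10, [18, 18, 16, 20, 18, 15]),
  ([0, -1, 0, 0, 0, 1, 1, 0], 11, [19, 17, 19, 19, 19, 21]),
  ([0, 1, 0, -1, 1, -1, 2, 0], 11, [20, 21, 20, 18, 22, 17]),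
  ([0, -1, 0, 0, 1, -1, 2, 0], 12, [21, 20, 21, 21, 23, 19]),
  ([0, 1, 0, 0, -1, 0, 2, 0], 12, [22, 23, 22, 22, 20, 22]),
  ([0, -1, 0, 1, -1, 0, 2, 0], 13, [23, 22, 23, 24, 21, 23])]

/-- Part of `chainE8E_5orb`. -/
def chainE8E_5orbp1 : List (List ℤ × ℕ × List ℕ) := [
  ([0, 0, 1, -1, 0, 0, 2, 0], 14, [24, 24, 25, 23, 24, 24]),
  ([1, 0, -1, 0, 0, 0, 2, 0], 15, [26, 25, 24, 25, 25, 25]),
  ([-1, 0, 0, 0, 0, 0, 2, 0], 16, [25, 26, 26, 26, 26, 26])]

/-- chainE8E_5orb -/
def chainE8E_5orb : List (List ℤ × ℕ × List ℕ) :=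
  chainE8E_5orbp0 ++
  chainE8E_5orbp1

/-- Orbit step. -/
def chainE8E_5 : OrbitStep := ⟨5, chainE8E_5orb⟩

/-- Part of `chainE8E_4orb`. -/
def chainE8E_4orbp0 : List (List ℤ × ℕ × List ℕ) := [
  ([0, 0, 0, 0, 1, 0, 0, 0], 0, [0, 0, 0, 0, 1]),
  ([0, 0, 0, 1, -1, 1, 0, 0], 1, [1, 1, 1, 2, 0]),
  ([0, 1, 1, -1, 0, 1, 0, 0], 2, [2, 3, 4, 1, 2]),
  ([0, -1, 1, 0, 0, 1, 0, 0], 3, [3, 2, 5, 3, 3]),
  ([1, 1, -1, 0, 0, 1, 0, 0], 3, [6, 5, 2, 4, 4]),
  ([1, -1, -1, 1, 0, 1, 0, 0], 4, [7, 4, 3, 8, 5]),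
  ([-1, 1, 0, 0, 0, 1, 0, 0], 4, [4, 7, 6, 6, 6]),
  ([-1, -1, 0, 1, 0, 1, 0, 0], 5, [5, 6, 7, 9, 7]),
  ([1, 0, 0, -1, 1, 1, 0, 0], 5, [9, 8, 8, 5, 10]),
  ([-1, 0, 1, -1, 1, 1, 0, 0], 6, [8, 9, 11, 7, 12]),
  ([1, 0, 0, 0, -1, 2, 0, 0], 6, [12, 10, 10, 10, 8]),
  ([0, 0, -1, 0, 1, 1, 0, 0], 7, [11, 11, 9, 11, 13]),
  ([-1, 0, 1, 0, -1, 2, 0, 0], 7, [10, 12, 13, 12, 9]),
  ([0, 0, -1, 1, -1, 2, 0, 0], 8, [13, 13, 12, 14, 11]),
  ([0, 1, 0, -1, 0, 2, 0, 0], 9, [14, 15, 14, 13, 14]),
  ([0, -1, 0, 0, 0, 2, 0, 0], 10, [15, 14, 15, 15, 15])]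

/-- chainE8E_4orb -/
def chainE8E_4orb : List (List ℤ × ℕ × List ℕ) :=
  chainE8E_4orbp0

/-- Orbit step. -/
def chainE8E_4 : OrbitStep := ⟨4, chainE8E_4orb⟩

/-- Part of `chainE8E_3orb`. -/
def chainE8E_3orbp0 : List (List ℤ × ℕ × List ℕ) := [
  ([0, 0, 0, 1, 0, 0, 0, 0], 0, [0, 0, 0, 1]),
  ([0, 1, 1, -1, 1, 0, 0, 0], 1, [1, 2, 3, 0]),
  ([0, -1, 1, 0, 1, 0, 0, 0], 2, [2, 1, 4, 2]),
  ([1, 1, -1, 0, 1, 0, 0, 0], 2, [5, 4, 1, 3]),
  ([1, -1, -1, 1, 1, 0, 0, 0], 3, [6, 3, 2, 7]),
  ([-1, 1, 0, 0, 1, 0, 0, 0], 3, [3, 6, 5, 5]),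
  ([-1, -1, 0, 1, 1, 0, 0, 0], 4, [4, 5, 6, 8]),
  ([1, 0, 0, -1, 2, 0, 0, 0], 4, [8, 7, 7, 4]),
  ([-1, 0, 1, -1, 2, 0, 0, 0], 5, [7, 8, 9, 6]),
  ([0, 0, -1, 0, 2, 0, 0, 0], 6, [9, 9, 8, 9])]

/-- chainE8E_3orb -/
def chainE8E_3orb : List (List ℤ × ℕ × List ℕ) :=
  chainE8E_3orbp0

/-- Orbit step. -/
def chainE8E_3 : OrbitStep := ⟨3, chainE8E_3orb⟩

/-- Part of `chainE8E_2orb`. -/
def chainE8E_2orbp0 : List (List ℤ × ℕ × List ℕ) := [
  ([0, 0, 1, 0, 0, 0, 0, 0], 0, [0, 0, 1]),
  ([1, 0, -1, 1, 0, 0, 0, 0], 1, [2, 1, 0]),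
  ([-1, 0, 0, 1, 0, 0, 0, 0], 2, [1, 2, 2])]

/-- chainE8E_2orb -/
def chainE8E_2orb : List (List ℤ × ℕ × List ℕ) :=
  chainE8E_2orbp0

/-- Orbit step. -/
def chainE8E_2 : OrbitStep := ⟨2, chainE8E_2orb⟩

/-- Part of `chainE8E_1orb`. -/
def chainE8E_1orbp0 : List (List ℤ × ℕ × List ℕ) := [
  ([0, 1, 0, 0, 0, 0, 0, 0], 0, [0, 1]),
  ([0, -1, 0, 1, 0, 0, 0, 0], 1, [1, 0])]

/-- chainE8E_1orb -/
def chainE8E_1orb : List (List ℤ × ℕ × List ℕ) :=
  chainE8E_1orbp0

/-- Orbit step. -/
def chainE8E_1 : OrbitStep := ⟨1, chainE8E_1orb⟩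

/-- Part of `chainE8E_0orb`. -/
def chainE8E_0orbp0 : List (List ℤ × ℕ × List ℕ) := [
  ([1, 0, 0, 0, 0, 0, 0, 0], 0, [1]),
  ([-1, 0, 1, 0, 0, 0, 0, 0], 1, [0])]

/-- chainE8E_0orb -/
def chainE8E_0orb : List (List ℤ × ℕ × List ℕ) :=
  chainE8E_0orbp0

/-- Orbit step. -/
def chainE8E_0 : OrbitStep := ⟨0, chainE8E_0orb⟩

/-- Stabiliser data. -/
def dataE8E : Data where
  b := [false, true, false, false, true, false, true, false]
  J := [0, 1, 2, 3, 4, 5, 6]
  reps := [
    ([], 0),
    ([7, 6, 5, 4, 3, 2, 1, 3, 4, 5, 6, 0, 2, 3, 4, 5, 1, 3, 4, 2, 3, 0, 2, 1, 3, 4, 5, 6, 7, 6, 5, 4, 3, 2, 1, 3, 4, 5, 6, 0, 2, 3, 4, 5, 1, 3, 4, 2, 3, 0, 2, 1, 3, 4, 5, 6, 7], 1)]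
  posJ := [121, 123, 124, 126, 127, 128, 130, 131, 132, 133, 135, 136, 137, 138, 139, 141, 142, 143, 144, 145, 147, 148, 149, 150, 152, 153, 154, 156, 157, 159, 162, 163, 164, 165, 166, 167, 169, 170, 171, 172, 174, 175, 176, 178, 179, 181, 184, 185, 186, 188, 189, 191, 194, 195, 197, 200, 204, 205, 207, 210, 214, 219, 226]
  posR := [121, 123, 124, 126, 127, 128, 130, 131, 132, 133, 135, 136, 137, 138, 139, 141, 142, 143, 144, 145, 147, 148, 149, 150, 152, 153, 154, 156, 157, 159, 162, 163, 164, 165, 166, 167, 169, 170, 171, 172, 174, 175, 176, 178, 179, 181, 184, 185, 186, 188, 189, 191, 194, 195, 197, 200, 204, 205, 207, 210, 214, 219, 226, 239]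
  chain := [chainE8E_6, chainE8E_5, chainE8E_4, chainE8E_3, chainE8E_2, chainE8E_1, chainE8E_0]

theorem okDataE8E : okData chevE8 certE8.cR colsE8 dataE8E = true :=
  okData_of_C factsE8 fastTabE8 (by decide +kernel)

theorem polyDataE8E : polyEqb (dataPoly dataE8E) (polyProd (([2, 2, 6, 8, 10, 12, 14, 18] : List ℕ).map polyGeom)) = true := by decide +kernel

theorem cardDataE8E : orbitE8E.length * polyEval 1 (dataPoly dataE8E) = factsE8.lenSum (List.range chevE8.rank) 1 := by
  rw [lenSumE8]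
  decide +kernel

theorem okCombE8 : okComb chevE8 = true :=
  okComb_of_C factsE8 fastTabE8 (by decide +kernel)

theorem okCoverE8 : okCover chevE8 [orbitE8D, orbitE8E] = true := by decide +kernel

end Cfsg.Agent.Small.ChevInvol
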