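import Cfsg.Agent.Lib.Small.ChevInvol.Fast
import Cfsg.Agent.Lib.Lie.WeylF4
import Cfsg.Agent.Lib.Lie.TorusCerts

/-! Tables for the involution classes of the Chevalley group of type F4, checked by the kernel. -/

set_option autoImplicit false
set_option maxRecDepth 100000

namespace Cfsg.Agent.Small.ChevInvol

open Cfsg.Lie Cfsg.Agent.Lie

theorem fastTabF4 : FastTab chevF4 certF4 :=
  fastTab_of_checks factsF4 certF4_okShape (fun i hi => by
    have : i < 4 := hi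
    interval_cases i
    · exact certF4_okRefl0
    · exact certF4_okRefl1
    · exact certF4_okRefl2
    · exact certF4_okRefl3
  )

/-- Part of `orbitF4B`. -/
def orbitF4Bp0 : List (List Bool × ℕ × ℕ) := [
  ([false, true, false, false], 0, 0),
  ([true, true, false, false], 0, 0),
  ([true, false, false, false], 1, 1)]

/-- orbitF4B -/
def orbitF4B : List (List Bool × ℕ × ℕ) :=
  orbitF4Bp0

theorem okOrbitF4B : okTable chevF4 [false, true, false, false] orbitF4B = true :=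
  okTable_of_C factsF4 fastTabF4 (c := certF4) (by decide +kernel)

/-- Part of `chainF4B_3orb`. -/
def chainF4B_3orbp0 : List (List ℤ × ℕ × List ℕ) := [
  ([0, 0, 0, 1], 0, [0, 0, 1]),
  ([0, 0, 1, -1], 1, [1, 2, 0]),
  ([0, 2, -1, 0], 2, [3, 1, 2]),
  ([2, -2, 1, 0], 3, [2, 4, 3]),
  ([2, 0, -1, 1], 4, [4, 3, 5]),
  ([2, 0, 0, -1], 5, [5, 5, 4])]

/-- chainF4B_3orb -/
def chainF4B_3orb : List (List ℤ × ℕ × List ℕ) :=
  chainF4B_3orbp0

/-- Orbit step. -/
def chainF4B_3 : OrbitStep := ⟨3, chainF4B_3orb⟩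

/-- Part of `chainF4B_2orb`. -/
def chainF4B_2orbp0 : List (List ℤ × ℕ × List ℕ) := [
  ([0, 0, 1, 0], 0, [0, 1]),
  ([0, 2, -1, 1], 1, [2, 0]),
  ([2, -2, 1, 1], 2, [1, 3]),
  ([2, 0, -1, 2], 3, [3, 2])]

/-- chainF4B_2orb -/
def chainF4B_2orb : List (List ℤ × ℕ × List ℕ) :=
  chainF4B_2orbp0

/-- Orbit step. -/
def chainF4B_2 : OrbitStep := ⟨2, chainF4B_2orb⟩

/-- Part of `chainF4B_1orb`. -/
def chainF4B_1orbp0 : List (List ℤ × ℕ × List ℕ) := [
  ([0, 1, 0, 0], 0, [1]),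
  ([1, -1, 1, 0], 1, [0])]

/-- chainF4B_1orb -/
def chainF4B_1orb : List (List ℤ × ℕ × List ℕ) :=
  chainF4B_1orbp0

/-- Orbit step. -/
def chainF4B_1 : OrbitStep := ⟨1, chainF4B_1orb⟩

/-- Stabiliser data. -/
def dataF4B : Data where
  b := [false, true, false, false]
  J := [1, 2, 3]
  reps := [
    ([], 0),
    ([0, 1, 2, 1, 0], 1),
    ([3, 0, 1, 2, 1, 0], 2),
    ([2, 3, 0, 1, 2, 1, 0], 3),
    ([0, 1, 2, 3, 1, 2, 0, 1, 2, 3, 0, 1, 2, 1, 0], 7),
    ([1, 2, 3, 0, 1, 2, 1, 0], 4),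
    ([2, 1, 2, 3, 0, 1, 2, 1, 0], 5),
    ([3, 2, 1, 2, 3, 0, 1, 2, 1, 0], 6)]
  posJ := [24, 25, 26, 27, 28, 29, 30, 31, 32]
  posR := [24, 25, 26, 27, 28, 29, 30, 31, 32, 41, 42, 43, 44, 45, 46, 47]
  chain := [chainF4B_3, chainF4B_2, chainF4B_1]

theorem okDataF4B : okData chevF4 certF4.cR colsF4 dataF4B = true :=
  okData_of_C factsF4 fastTabF4 (by decide +kernel)

theorem polyDataF4B : polyEqb (dataPoly dataF4B) (polyProd (([2, 4, 6, 8] : List ℕ).map polyGeom)) = true := by decide +kernel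

theorem cardDataF4B : orbitF4B.length * polyEval 1 (dataPoly dataF4B) = factsF4.lenSum (List.range chevF4.rank) 1 := by
  rw [lenSumF4]
  decide +kernel

/-- Part of `orbitF4C`. -/
def orbitF4Cp0 : List (List Bool × ℕ × ℕ) := [
  ([true, false, true, false], 0, 0),
  ([true, false, true, true], 0, 3),
  ([true, false, false, true], 1, 2),
  ([true, true, false, true], 2, 1),
  ([false, true, false, true], 3, 0),
  ([true, true, true, true], 3, 2),
  ([false, true, true, true], 4, 2),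
  ([true, true, true, false], 5, 3),
  ([false, false, true, true], 6, 1),
  ([false, true, true, false], 6, 3),
  ([false, false, false, true], 8, 2),
  ([false, false, true, false], 8, 3)]

/-- orbitF4C -/
def orbitF4C : List (List Bool × ℕ × ℕ) :=
  orbitF4Cp0

theorem okOrbitF4C : okTable chevF4 [true, false, true, false] orbitF4C = true :=
  okTable_of_C factsF4 fastTabF4 (c := certF4) (by decide +kernel)

/-- Part of `chainF4C_2orb`. -/
def chainF4C_2orbp0 : List (List ℤ × ℕ × List ℕ) := [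
  ([0, 0, 1, 0], 0, [0, 0, 1]),
  ([0, 2, -1, 1], 1, [1, 2, 0]),
  ([2, -2, 1, 1], 2, [3, 1, 4]),
  ([-2, 0, 1, 1], 3, [2, 3, 5]),
  ([2, 0, -1, 2], 3, [5, 4, 2]),
  ([-2, 2, -1, 2], 4, [4, 6, 3]),
  ([0, -2, 1, 2], 5, [6, 5, 7]),
  ([0, 0, -1, 3], 6, [7, 7, 6])]

/-- chainF4C_2orb -/
def chainF4C_2orb : List (List ℤ × ℕ × List ℕ) :=
  chainF4C_2orbp0

/-- Orbit step. -/
def chainF4C_2 : OrbitStep := ⟨2, chainF4C_2orb⟩

/-- Part of `chainF4C_1orb`. -/
def chainF4C_1orbp0 : List (List ℤ × ℕ × List ℕ) := [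
  ([0, 1, 0, 0], 0, [0, 1]),
  ([1, -1, 1, 0], 1, [2, 0]),
  ([-1, 0, 1, 0], 2, [1, 2])]

/-- chainF4C_1orb -/
def chainF4C_1orb : List (List ℤ × ℕ × List ℕ) :=
  chainF4C_1orbp0

/-- Orbit step. -/
def chainF4C_1 : OrbitStep := ⟨1, chainF4C_1orb⟩

/-- Part of `chainF4C_0orb`. -/
def chainF4C_0orbp0 : List (List ℤ × ℕ × List ℕ) := [
  ([1, 0, 0, 0], 0, [1]),
  ([-1, 1, 0, 0], 1, [0])]

/-- chainF4C_0orb -/
def chainF4C_0orb : List (List ℤ × ℕ × List ℕ) :=
  chainF4C_0orbp0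

/-- Orbit step. -/
def chainF4C_0 : OrbitStep := ⟨0, chainF4C_0orb⟩

/-- Stabiliser data. -/
def dataF4C : Data where
  b := [true, false, true, false]
  J := [0, 1, 2]
  reps := [
    ([], 0),
    ([3, 2, 1, 2, 0, 1, 2, 3, 2, 1, 2, 0, 1, 2, 3], 1)]
  posJ := [25, 27, 28, 30, 33, 34, 35, 37, 41]
  posR := [25, 27, 28, 30, 33, 34, 35, 37, 41, 47]
  chain := [chainF4C_2, chainF4C_1, chainF4C_0]

theorem okDataF4C : okData chevF4 certF4.cR colsF4 dataF4C = true :=
  okData_of_C factsF4 fastTabF4 (by decide +kernel)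

theorem polyDataF4C : polyEqb (dataPoly dataF4C) (polyProd (([2, 2, 4, 6] : List ℕ).map polyGeom)) = true := by decide +kernel

theorem cardDataF4C : orbitF4C.length * polyEval 1 (dataPoly dataF4C) = factsF4.lenSum (List.range chevF4.rank) 1 := by
  rw [lenSumF4]
  decide +kernel

theorem okCombF4 : okComb chevF4 = true :=
  okComb_of_C factsF4 fastTabF4 (by decide +kernel)

theorem okCoverF4 : okCover chevF4 [orbitF4B, orbitF4C] = true := by decide +kernel

end Cfsg.Agent.Small.ChevInvol
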