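import Cfsg.Agent.Lib.Small.ChevInvol.Count
import Cfsg.Agent.Lib.Lie.CertSound

/-!
The checks of the involution tables, evaluated on the packed certificate of a datum.
-/

set_option autoImplicit false

namespace Cfsg.Agent.Small.ChevInvol

open Cfsg.Lie Cfsg.Agent.Lie

/-- The packed tables agree with the datum. -/
structure FastTab (D : ChevalleyDatum) (c : Cert) : Prop where
  car : ∀ j, j < D.rank → ∀ s, s < D.nroots → D.cartan j s = c.cA j s
  simp : ∀ i, i < D.rank → D.simple i = c.cS i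
  coE : ∀ s, s < D.nroots → ∀ j, j < D.rank → co D s j = c.cC s j
  refl : RefTab D c.cR

theorem fastTab_of_checks {D : ChevalleyDatum} (hF : Facts D) {c : Cert}
    (h1 : c.okShape D = true) (h4 : ∀ i, i < D.rank → c.okRefl i = true) : FastTab D c := by
  simp only [Cert.okShape, Bool.and_eq_true, allIdx_iff, Nat.zero_add, Nat.beq_eq, Nat.ble_eq,
    Nat.blt_eq, decide_eq_true_eq, beq_iff_eq, nblt] at h1
  obtain ⟨⟨⟨⟨⟨⟨⟨⟨⟨⟨⟨⟨⟨hn, hl⟩, -⟩, -⟩, -⟩, -⟩, -⟩, -⟩, hsimpl⟩, hsimp⟩, hcarl⟩, hcar⟩, hcol⟩, hco⟩ := h1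
  have car : ∀ j, j < D.rank → ∀ s, s < D.nroots → D.cartan j s = c.cA j s := by
    intro j hj s hs
    rw [hl] at hj; rw [hn] at hs
    obtain ⟨hlen, hrow⟩ := hcar j (hcarl ▸ hj)
    have := hrow s (hlen ▸ hs)
    rw [ChevalleyDatum.cartan, array_getD_eq D.cartanSR _ _ (hcarl ▸ hj),
      array_getD_eq (D.cartanSR.toList[j]'(hcarl ▸ hj)) _ _ (hlen ▸ hs)]
    exact this.1.1
  have simp' : ∀ i, i < D.rank → D.simple i = c.cS i := by
    intro i hi
    rw [hl] at hi
    rw [ChevalleyDatum.simple, array_getD_eq _ _ _ (hsimpl ▸ hi)]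
    exact (hsimp i (hsimpl ▸ hi)).1.1
  refine ⟨car, simp', fun s hs j hj => ?_, fun i hi s hs => ?_⟩
  · rw [hl] at hj; rw [hn] at hs
    obtain ⟨⟨⟨hlen, hrow⟩, -⟩, -⟩ := hco s (hcol ▸ hs)
    rw [co, array_getD_eq D.coroot _ _ (hcol ▸ hs),
      array_getD_eq (D.coroot.toList[s]'(hcol ▸ hs)) _ _ (hlen ▸ hj)]
    exact hrow j (hlen ▸ hj)
  · have := h4 i hi
    simp only [Cert.okRefl, Bool.and_eq_true, allRange_iff, Nat.beq_eq, Bool.or_eq_true, Nat.blt_eq,
      Nat.ble_eq, decide_eq_true_eq, beq_iff_eq, Bool.cond_decide, nbeq] at this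
    obtain ⟨⟨⟨⟨⟨⟨⟨-, a1⟩, -⟩, -⟩, -⟩, a5⟩, -⟩, -⟩ := this.2 s (hn ▸ hs)
    have a1' : c.cR i s < D.nroots := by rw [hn]; exact a1
    refine hF.psi_inj (hF.refl_lt i hi s hs) a1' fun k hk => ?_
    rw [hF.cartan_refl i hi s hs k hk, car k hk s hs, car i hi s hs, car k hk _ (hF.simple_lt i hi),
      simp' i hi, car k hk _ a1', (a5 k (hl ▸ hk)).1]

variable {D : ChevalleyDatum} {c : Cert}

/-- Parity on the packed tables. -/
noncomputable def evenC (c : Cert) (l : ℕ) (b : List Bool) (s : ℕ) : Bool :=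
  ((List.range l).map fun m => if b.getD m false then c.cA m s else 0).sum % 2 == 0

/-- One reflection on the packed tables. -/
noncomputable def flipC (c : Cert) (l : ℕ) (b : List Bool) (i : ℕ) : List Bool :=
  if evenC c l b (c.cS i) then b else b.set i (!b.getD i false)

theorem evenC_eq (h : FastTab D c) (b : List Bool) {s : ℕ} (hs : s < D.nroots) :
    evenC c D.rank b s = evenB D b s := by
  rw [evenC, evenB, bitSum]
  congr 3
  exact List.map_congr_left fun m hm => by rw [h.car m (List.mem_range.1 hm) s hs]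

theorem flipC_eq (hF : Facts D) (h : FastTab D c) (b : List Bool) {i : ℕ} (hi : i < D.rank) :
    flipC c D.rank b i = flipB D b i := by
  rw [flipC, flipB, ← h.simp i hi, evenC_eq h b (hF.simple_lt i hi)]

/-- The table check. -/
noncomputable def okTableC (D : ChevalleyDatum) (c : Cert) (b : List Bool)
    (T : List (List Bool × ℕ × ℕ)) : Bool :=
  decide (b.length = D.rank) && decide ((T.map Prod.fst).Nodup) &&
  ((T.map Prod.fst).head? == some b) &&
  (T.zipIdx.all fun e => e.2 == 0 ||
    (decide (e.1.2.1 < e.2) && decide (e.1.2.2 < D.rank) &&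
      e.1.1 == flipC c D.rank (T.getD e.1.2.1 ([], 0, 0)).1 e.1.2.2)) &&
  (T.all fun e => (List.range D.rank).all fun i => (T.map Prod.fst).contains (flipC c D.rank e.1 i))

theorem okTable_of_C (hF : Facts D) (h : FastTab D c) {b : List Bool}
    {T : List (List Bool × ℕ × ℕ)} (hT : okTableC D c b T = true) : okTable D b T = true := by
  simp only [okTableC, okTable, Bool.and_eq_true, decide_eq_true_eq, List.all_eq_true, beq_iff_eq,
    Bool.or_eq_true, List.mem_range] at hT ⊢
  refine ⟨⟨hT.1.1, fun e he => ?_⟩, fun e he i hi => ?_⟩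
  · rcases hT.1.2 e he with h0 | ⟨⟨h1, h2⟩, h3⟩
    · exact Or.inl h0
    · exact Or.inr ⟨⟨h1, h2⟩, by rw [h3, flipC_eq hF h _ h2]⟩
  · rw [← flipC_eq hF h _ hi]; exact hT.2 e he i hi

/-- A root supported on J, on the packed tables. -/
noncomputable def inJC (c : Cert) (l : ℕ) (J : List ℕ) (x : ℕ) : Bool :=
  (List.range l).all fun k => J.contains k || c.cC x k == 0

/-- The data check. -/
noncomputable def okDataC (D : ChevalleyDatum) (c : Cert) (cols : List (List ℤ)) (A : Data) : Bool :=
  decide (A.b.length = D.rank) && A.J.all (fun j => decide (j < D.rank)) &&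
  okChainW D cols A.J A.chain &&
  A.posJ == (Facts.posL D).filter (inJC c D.rank A.J) &&
  A.posR == (Facts.posL D).filter (evenC c D.rank A.b) &&
  A.posJ.all (evenC c D.rank A.b) &&
  A.reps.all (fun p => p.1.all (fun i => decide (i < D.rank)) &&
    (p.1.foldr (fun i v => flipC c D.rank v i) A.b) == A.b &&
    A.posJ.all (fun x => decide (D.nroots / 2 ≤ imgW c.cR p.1 x)) &&
    (A.posR.filter fun x => decide (imgW c.cR p.1 x < D.nroots / 2)).length == p.2) &&
  decide ((A.reps.map fun p => (List.range D.rank).map fun i => imgW c.cR p.1 (c.cS i)).Nodup)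

theorem okData_of_C (hF : Facts D) (h : FastTab D c) {cols : List (List ℤ)} {A : Data}
    (hA : okDataC D c cols A = true) : okData D c.cR cols A = true := by
  simp only [okDataC, okData, Bool.and_eq_true, decide_eq_true_eq, List.all_eq_true, beq_iff_eq] at hA ⊢
  obtain ⟨⟨⟨⟨⟨⟨⟨hb, hJ⟩, hch⟩, hPJ⟩, hPR⟩, hJR⟩, hreps⟩, hnd⟩ := hA
  have hlt : ∀ x ∈ Facts.posL D, x < D.nroots := fun x hx => (Facts.mem_posL.1 hx).2
  have eJ : (Facts.posL D).filter (inJC c D.rank A.J) = (Facts.posL D).filter (inJRoot D A.J) :=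
    List.filter_congr fun x hx => by
      rw [inJC, inJRoot, Bool.eq_iff_iff]
      simp only [List.all_eq_true, List.mem_range]
      exact forall₂_congr fun k hk => by rw [h.coE x (hlt x hx) k hk]
  have eR : (Facts.posL D).filter (evenC c D.rank A.b) = (Facts.posL D).filter (evenB D A.b) :=
    List.filter_congr fun x hx => evenC_eq h _ (hlt x hx)
  have hword : ∀ ω : List ℕ, (∀ i ∈ ω, i < D.rank) →
      ω.foldr (fun i v => flipC c D.rank v i) A.b = wordB D A.b ω := by
    intro ω hω
    induction ω with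
    | nil => rfl
    | cons i ω ih =>
      show flipC c D.rank _ i = flipB D (wordB D A.b ω) i
      rw [ih fun k hk => hω k (List.mem_cons_of_mem _ hk), flipC_eq hF h _ (hω i (by simp))]
  refine ⟨⟨⟨⟨⟨⟨⟨hb, hJ⟩, hch⟩, hPJ.trans eJ⟩, hPR.trans eR⟩, fun x hx => ?_⟩, fun p hp => ?_⟩, ?_⟩
  · rw [← evenC_eq h _ (hlt x (List.mem_filter.1 (hPJ ▸ hx)).1)]; exact hJR x hx
  · obtain ⟨⟨⟨h1, h2⟩, h3⟩, h4⟩ := hreps p hp
    exact ⟨⟨⟨h1, (hword _ h1).symm.trans h2⟩, h3⟩, h4⟩
  · have e : (A.reps.map fun p => (List.range D.rank).map fun i => imgW c.cR p.1 (D.simple i)) =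
        A.reps.map fun p => (List.range D.rank).map fun i => imgW c.cR p.1 (c.cS i) :=
      List.map_congr_left fun p _ => List.map_congr_left fun i hi => by rw [h.simp i (List.mem_range.1 hi)]
    rw [e]; exact hnd

/-- The descent check. -/
noncomputable def okCombC (D : ChevalleyDatum) (c : Cert) : Bool :=
  ((List.range D.rank).all fun i => (List.range D.rank).all fun j =>
    (i == j) ||
    (c.cA i (c.cS j) == 0 && c.cA j (c.cS i) == 0 &&
      (D.commTerms (c.cS i) (c.cS j)).isEmpty &&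
      (D.commTerms (D.neg (c.cS i)) (c.cS j)).isEmpty) ||
    decide (c.cA i (c.cS j) % 2 = 1) || decide (c.cA j (c.cS i) % 2 = 1)) &&
  ((List.range D.nroots).all fun s =>
    decide (s < D.nroots / 2) || ((List.range D.rank).any fun i => c.cS i == s) ||
    ((List.range D.rank).any fun k => (List.range D.rank).any fun l =>
      !(k == l) && !(c.cC s k == 0) && !(c.cC s l == 0) && !(c.cA k (c.cS l) == 0)))

theorem all_congr' {α : Type*} {L : List α} {f g : α → Bool} (h : ∀ a ∈ L, f a = g a) :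
    L.all f = L.all g := by
  induction L with
  | nil => rfl
  | cons a L ih =>
    rw [List.all_cons, List.all_cons, h a (by simp), ih fun b hb => h b (List.mem_cons_of_mem _ hb)]

theorem any_congr' {α : Type*} {L : List α} {f g : α → Bool} (h : ∀ a ∈ L, f a = g a) :
    L.any f = L.any g := by
  induction L with
  | nil => rfl
  | cons a L ih =>
    rw [List.any_cons, List.any_cons, h a (by simp), ih fun b hb => h b (List.mem_cons_of_mem _ hb)]

theorem okComb_of_C (hF : Facts D) (h : FastTab D c) (hC : okCombC D c = true) : okComb D = true := by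
  rw [← hC, okComb, okCombC]
  congr 1
  · refine all_congr' fun i hi => all_congr' fun j hj => ?_
    rw [List.mem_range] at hi hj
    rw [← h.simp i hi, ← h.simp j hj, h.car i hi _ (hF.simple_lt j hj), h.car j hj _ (hF.simple_lt i hi)]
  · refine all_congr' fun s hs => ?_
    rw [List.mem_range] at hs
    congr 1
    · congr 1
      exact any_congr' fun i hi => by rw [h.simp i (List.mem_range.1 hi)]
    · refine any_congr' fun k hk => any_congr' fun l hl => ?_
      rw [List.mem_range] at hk hl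
      rw [h.coE s hs k hk, h.coE s hs l hl, ← h.simp l hl, h.car k hk _ (hF.simple_lt l hl)]

end Cfsg.Agent.Small.ChevInvol
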