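import Cfsg.Agent.Lib.Small.ChevInvol.Normal

/-!
Involutions of the torus as bit vectors: the action of the Weyl group on them, its orbits from a
table, and the classification of the involutions of the group.
-/

set_option autoImplicit false

namespace Cfsg.Agent.Small.ChevInvol

open Cfsg.Lie Cfsg.Agent.Lie
open scoped MatrixGroups

variable {D : ChevalleyDatum} {F : Type*} [Field F] (hF : Facts D)

/-- Coordinates ±1 from bits. -/
def sv (D : ChevalleyDatum) (F : Type*) [Field F] (b : List Bool) : Fin D.rank → Fˣ :=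
  fun m => if b.getD m.val false then -1 else 1

/-- Exponent of -1 in the value of a root. -/
def bitSum (D : ChevalleyDatum) (b : List Bool) (s : ℕ) : ℤ :=
  ((List.range D.rank).map fun m => if b.getD m false then D.cartan m s else 0).sum

/-- The root is trivial on the bit vector. -/
def evenB (D : ChevalleyDatum) (b : List Bool) (s : ℕ) : Bool := bitSum D b s % 2 == 0

/-- One fundamental reflection on bit vectors. -/
def flipB (D : ChevalleyDatum) (b : List Bool) (i : ℕ) : List Bool :=
  if evenB D b (D.simple i) then b else b.set i (!b.getD i false)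

/-- A word on bit vectors, last letter first. -/
def wordB (D : ChevalleyDatum) (b : List Bool) (ω : List ℕ) : List Bool :=
  ω.foldr (fun i v => flipB D v i) b

theorem length_flipB (b : List Bool) (i : ℕ) : (flipB D b i).length = b.length := by
  unfold flipB; split <;> simp

theorem torChar_sv (b : List Bool) (s : ℕ) : torChar D (sv D F b) s = (-1 : Fˣ) ^ bitSum D b s := by
  have h : ∀ n : ℕ, ∏ m ∈ Finset.range n, (if b.getD m false then (-1 : Fˣ) else 1) ^ D.cartan m s =
      (-1 : Fˣ) ^ ((List.range n).map fun m => if b.getD m false then D.cartan m s else 0).sum := by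
    intro n
    induction n with
    | zero => simp
    | succ n ih =>
      rw [Finset.prod_range_succ, List.range_succ, List.map_append, List.sum_append, _root_.zpow_add, ih]
      simp only [List.map_cons, List.map_nil, List.sum_cons, List.sum_nil, add_zero]
      split <;> simp
  rw [torChar, bitSum, ← h, Finset.prod_range]
  rfl

theorem torChar_sv_even {b : List Bool} {s : ℕ} (h : evenB D b s = true) :
    torChar D (sv D F b) s = 1 := by
  rw [evenB, beq_iff_eq] at h
  rw [torChar_sv]
  obtain ⟨k, hk⟩ : ∃ k, bitSum D b s = 2 * k := ⟨bitSum D b s / 2, by omega⟩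
  rw [hk, _root_.zpow_mul, show (-1 : Fˣ) ^ (2 : ℤ) = 1 by simp, _root_.one_zpow]

theorem torChar_sv_odd {b : List Bool} {s : ℕ} (h : evenB D b s = false) :
    torChar D (sv D F b) s = -1 := by
  rw [evenB, beq_eq_false_iff_ne] at h
  rw [torChar_sv]
  obtain ⟨k, hk⟩ : ∃ k, bitSum D b s = 2 * k + 1 := ⟨bitSum D b s / 2, by omega⟩
  rw [hk, _root_.zpow_add, _root_.zpow_mul, show (-1 : Fˣ) ^ (2 : ℤ) = 1 by simp, _root_.one_zpow,
    one_mul, _root_.zpow_one]

theorem neg_one_ne_one (h2 : (2 : F) ≠ 0) : (-1 : Fˣ) ≠ 1 := fun h => h2 (by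
  have h' := congrArg Units.val h
  rw [Units.val_neg, Units.val_one] at h'
  linear_combination -h')

theorem two_ne_zero_of_odd [Fintype F] (hq : Odd (Fintype.card F)) : (2 : F) ≠ 0 := by
  intro h
  have hr : ringChar F = 2 := by
    have h1 : (ringChar F) ∣ 2 := ringChar.dvd (by exact_mod_cast h)
    exact ((Nat.dvd_prime Nat.prime_two).1 h1).resolve_left (CharP.ringChar_ne_one (R := F))
  have := FiniteField.even_card_iff_char_two.1 hr
  have := Nat.odd_iff.1 hq
  omega

theorem torChar_sv_eq_one (h2 : (2 : F) ≠ 0) {b : List Bool} {s : ℕ} :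
    torChar D (sv D F b) s = 1 ↔ evenB D b s = true := by
  refine ⟨fun h => ?_, torChar_sv_even⟩
  by_contra hc
  rw [torChar_sv_odd (Bool.not_eq_true _ ▸ hc)] at h
  exact neg_one_ne_one h2 h

theorem reflT_sv (i : Fin D.rank) {b : List Bool} (hb : b.length = D.rank) :
    reflT i (sv D F b) = sv D F (flipB D b i.val) := by
  funext m
  by_cases he : evenB D b (D.simple i.val) = true
  · simp [reflT, flipB, he, torChar_sv_even he]
  · rw [Bool.not_eq_true] at he
    simp only [reflT, flipB, he, torChar_sv_odd he, Bool.false_eq_true, if_false, Pi.mul_apply, sv,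
      inv_neg, inv_one]
    by_cases hm : m = i
    · subst hm
      have hl : m.val < b.length := by rw [hb]; exact m.isLt
      simp only [Pi.mulSingle_eq_same, List.getD_eq_getElem?_getD, List.getElem?_set_self hl,
        Option.getD_some]
      cases b[m.val]?.getD false <;> simp
    · rw [Pi.mulSingle_eq_of_ne hm, mul_one, List.getD_eq_getElem?_getD, List.getD_eq_getElem?_getD,
        List.getElem?_set_ne (fun e => hm (Fin.ext e.symm))]

theorem nw_sv {b : List Bool} (hb : b.length = D.rank) (ω : List (Fin D.rank)) :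
    (hF.tsys F).nw ω * torus D F (sv D F b) * ((hF.tsys F).nw ω)⁻¹ =
      torus D F (sv D F (wordB D b (ω.map Fin.val))) ∧
    (wordB D b (ω.map Fin.val)).length = D.rank := by
  induction ω with
  | nil => exact ⟨by simp [TorusSys.nw_nil, wordB], by simpa [wordB] using hb⟩
  | cons i ω ih =>
    obtain ⟨h1, h2⟩ := ih
    have e : wordB D b ((i :: ω).map Fin.val) = flipB D (wordB D b (ω.map Fin.val)) i.val := rfl
    rw [e]
    refine ⟨?_, by rw [length_flipB]; exact h2⟩
    rw [← reflT_sv i h2, ← nS_torus hF, ← h1, TorusSys.nw_cons]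
    group

theorem sv_inj (h2 : (2 : F) ≠ 0) {a b : List Bool} (ha : a.length = D.rank) (hb : b.length = D.rank)
    (h : sv D F a = sv D F b) : a = b := by
  refine List.ext_getElem (ha.trans hb.symm) fun k h3 h4 => ?_
  have h5 := congrFun h ⟨k, ha ▸ h3⟩
  simp only [sv, List.getD_eq_getElem?_getD, List.getElem?_eq_getElem h3, List.getElem?_eq_getElem h4,
    Option.getD_some] at h5
  have hne := neg_one_ne_one (F := F) h2
  cases hx : a[k] <;> cases hy : b[k] <;> simp [hx, hy] at h5 ⊢
  · exact hne h5.symm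
  · exact hne h5

theorem exists_sv {c : Fin D.rank → Fˣ} (hc : c * c = 1) :
    ∃ b : List Bool, b.length = D.rank ∧ sv D F b = c := by
  classical
  refine ⟨List.ofFn fun m => decide (c m = -1), List.length_ofFn, funext fun m => ?_⟩
  have h1 : c m * c m = 1 := congrFun hc m
  simp only [sv, List.getD_eq_getElem?_getD, List.getElem?_ofFn, m.isLt, dif_pos, Option.getD_some,
    decide_eq_true_eq, Fin.eta]
  split
  · next h => exact h.symm
  · next h =>
    rcases mul_self_eq_one_iff.1 (show (c m : F) * (c m : F) = 1 by rw [← Units.val_mul, h1, Units.val_one])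
      with h3 | h3
    · exact (Units.ext (by rw [Units.val_one, h3])).symm
    · exact absurd (Units.ext (by rw [Units.val_neg, Units.val_one, h3])) h

/-- All bit vectors of length n. -/
def allVec : ℕ → List (List Bool)
  | 0 => [[]]
  | n + 1 => (allVec n).map (List.cons false) ++ (allVec n).map (List.cons true)

theorem mem_allVec : ∀ (b : List Bool), b ∈ allVec b.length
  | [] => by simp [allVec]
  | a :: b => by
    cases a <;> simp [allVec, mem_allVec b]

/-- A table of one orbit: vectors with parent and letter, the first being the representative. -/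
def okTable (D : ChevalleyDatum) (b : List Bool) (T : List (List Bool × ℕ × ℕ)) : Bool :=
  decide (b.length = D.rank) && decide ((T.map Prod.fst).Nodup) &&
  ((T.map Prod.fst).head? == some b) &&
  (T.zipIdx.all fun e => e.2 == 0 ||
    (decide (e.1.2.1 < e.2) && decide (e.1.2.2 < D.rank) &&
      e.1.1 == flipB D (T.getD e.1.2.1 ([], 0, 0)).1 e.1.2.2)) &&
  (T.all fun e => (List.range D.rank).all fun i => (T.map Prod.fst).contains (flipB D e.1 i))

theorem okTable_length {b : List Bool} {T : List (List Bool × ℕ × ℕ)} (h : okTable D b T = true) :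
    b.length = D.rank := by
  simp only [okTable, Bool.and_eq_true, decide_eq_true_eq] at h
  exact h.1.1.1.1

theorem okTable_spec {b : List Bool} {T : List (List Bool × ℕ × ℕ)} (h : okTable D b T = true) :
    ∀ v ∈ T.map Prod.fst, v.length = D.rank ∧ ∃ ω : List (Fin D.rank), v = wordB D b (ω.map Fin.val) := by
  have hb := okTable_length h
  simp only [okTable, Bool.and_eq_true, decide_eq_true_eq, List.all_eq_true, beq_iff_eq,
    Bool.or_eq_true] at h
  obtain ⟨⟨⟨⟨-, -⟩, hhead⟩, hpath⟩, -⟩ := h
  suffices key : ∀ k, ∀ hk : k < T.length, (T[k]).1.length = D.rank ∧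
      ∃ ω : List (Fin D.rank), (T[k]).1 = wordB D b (ω.map Fin.val) by
    intro v hv
    obtain ⟨e, he, rfl⟩ := List.mem_map.1 hv
    obtain ⟨k, hk, rfl⟩ := List.mem_iff_getElem.1 he
    exact key k hk
  intro k
  induction k using Nat.strong_induction_on with
  | _ k ih =>
    intro hk
    rcases hpath (T[k], k) (List.mem_zipIdx_iff_getElem?.2 (by simp [List.getElem?_eq_getElem hk]))
      with h0 | ⟨⟨hp, hl⟩, he⟩
    · subst h0
      cases T with
      | nil => simp at hk
      | cons a T =>
        simp only [List.map_cons, List.head?_cons, Option.some.injEq] at hhead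
        exact ⟨by simpa [hhead] using hb, [], by simp [hhead, wordB]⟩
    · simp only at hp hl he
      have hp' : (T[k]).2.1 < T.length := hp.trans hk
      rw [List.getD_eq_getElem?_getD, List.getElem?_eq_getElem hp', Option.getD_some] at he
      obtain ⟨hlen, ω, hω⟩ := ih _ hp hp'
      exact ⟨by rw [he, length_flipB, hlen], ⟨_, hl⟩ :: ω, by rw [he, hω]; rfl⟩

/-- The tables cover all nonzero vectors. -/
def okCover (D : ChevalleyDatum) (Ts : List (List (List Bool × ℕ × ℕ))) : Bool :=
  (allVec D.rank).all fun v => v.all (! ·) || Ts.any fun T => (T.map Prod.fst).contains v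

include hF in
theorem exists_conj_sv [Fintype F] (hq : Odd (Fintype.card F)) (hinj : TorusInj D F)
    (hok : okComb D = true) {reps : List (List Bool × List (List Bool × ℕ × ℕ))}
    (hT : ∀ p ∈ reps, okTable D p.1 p.2 = true) (hcov : okCover D (reps.map Prod.snd) = true)
    {g : GL D.Idx F} (hg : g ∈ D.group F) (hg2 : g * g = 1) (hg1 : g ≠ 1) :
    ∃ p ∈ reps, ∃ x ∈ D.group F, x * g * x⁻¹ = torus D F (sv D F p.1) := by
  obtain ⟨x, hx, hxH⟩ := exists_conj_diag hF hq hinj hok hg hg2
  rw [hF.diagonalSubgroup_eq F] at hxH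
  obtain ⟨c, hc⟩ := hxH
  have hsq : torus D F (c * c) = 1 := by
    rw [map_mul, hc]
    calc x * g * x⁻¹ * (x * g * x⁻¹) = x * (g * g) * x⁻¹ := by group
      _ = 1 := by rw [hg2]; group
  obtain ⟨v, hv, hvc⟩ := exists_sv (hinj _ hsq)
  simp only [okCover, List.all_eq_true, Bool.or_eq_true, List.any_eq_true, List.contains_iff_mem] at hcov
  rcases hcov v (hv ▸ mem_allVec v) with h0 | ⟨T, hT', hvT⟩
  · exfalso
    apply hg1
    have hc1 : c = 1 := by
      rw [← hvc]
      funext m
      have hm : m.val < v.length := by rw [hv]; exact m.isLt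
      have := h0 _ (List.getElem_mem hm)
      simp only [Bool.not_eq_true'] at this
      simp [sv, List.getD_eq_getElem?_getD, List.getElem?_eq_getElem hm, this]
    rw [hc1, map_one] at hc
    exact conj_eq_one_iff.1 hc.symm
  · obtain ⟨p, hp, rfl⟩ := List.mem_map.1 hT'
    obtain ⟨-, ω, hω⟩ := okTable_spec (hT p hp) v hvT
    have hn : (hF.tsys F).nw ω ∈ D.group F := by
      refine hF.monomial_le_group ?_
      rw [← hF.tsys_N]
      exact (hF.tsys F).nw_mem_N ω
    refine ⟨p, hp, ((hF.tsys F).nw ω)⁻¹ * x, mul_mem (inv_mem hn) hx, ?_⟩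
    have h1 := (nw_sv (F := F) hF (okTable_length (hT p hp)) ω).1
    rw [← hω, hvc, hc] at h1
    calc ((hF.tsys F).nw ω)⁻¹ * x * g * (((hF.tsys F).nw ω)⁻¹ * x)⁻¹
        = ((hF.tsys F).nw ω)⁻¹ * (x * g * x⁻¹) * (hF.tsys F).nw ω := by group
      _ = _ := by rw [← h1]; group

/-- The stabiliser of a torus element in the Weyl group. -/
def FixT (c : Fin D.rank → Fˣ) (w : hF.weyl) : Prop :=
  (hF.tsys F).nW w * torus D F c * ((hF.tsys F).nW w)⁻¹ = torus D F c

theorem nw_eq_nW_conj {ω : List (Fin D.rank)} {w : hF.weyl} (h : hF.refSys.pr ω = w)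
    (c : Fin D.rank → Fˣ) :
    (hF.tsys F).nW w * torus D F c * ((hF.tsys F).nW w)⁻¹ =
      (hF.tsys F).nw ω * torus D F c * ((hF.tsys F).nw ω)⁻¹ := by
  obtain ⟨a, ha, he⟩ := (hF.tsys F).nw_eq h
  obtain ⟨e, rfl⟩ := exists_torus hF ha
  obtain ⟨c', hc'⟩ := exists_torus hF ((hF.tsys F).nW_H (w := w) (torus_mem_H (F := F) hF c))
  rw [he, show torus D F e * (hF.tsys F).nW w * torus D F c * (torus D F e * (hF.tsys F).nW w)⁻¹ =
    torus D F e * ((hF.tsys F).nW w * torus D F c * ((hF.tsys F).nW w)⁻¹) * (torus D F e)⁻¹ by group,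
    ← hc', ← map_mul, mul_comm, map_mul, mul_inv_cancel_right]

theorem fixT_iff {ω : List (Fin D.rank)} {w : hF.weyl} (h : hF.refSys.pr ω = w) {b : List Bool}
    (hb : b.length = D.rank) (hinj : TorusInj D F) (h2 : (2 : F) ≠ 0) :
    FixT hF (sv D F b) w ↔ wordB D b (ω.map Fin.val) = b := by
  rw [FixT, nw_eq_nW_conj hF h, (nw_sv hF hb ω).1]
  constructor
  · intro he
    refine sv_inj h2 (nw_sv (F := F) hF hb ω).2 hb ?_
    refine mul_inv_eq_one.1 (hinj _ ?_)
    rw [map_mul, map_inv, he, mul_inv_cancel]
  · intro he; rw [he]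

/-- Orbit and stabiliser. -/
theorem card_fixT [Finite F] (hinj : TorusInj D F) (h2 : (2 : F) ≠ 0) {b : List Bool}
    {T : List (List Bool × ℕ × ℕ)} (hT : okTable D b T = true) :
    T.length * Nat.card {w : hF.weyl // FixT (F := F) hF (sv D F b) w} = Nat.card hF.weyl := by
  classical
  have hb := okTable_length hT
  have hspec := okTable_spec hT
  letI : MulAction hF.weyl (hF.tsys F).H :=
    { smul := fun w a => ⟨(hF.tsys F).nW w * a.1 * ((hF.tsys F).nW w)⁻¹, (hF.tsys F).nW_H a.2⟩
      one_smul := fun a => Subtype.ext (by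
        show (hF.tsys F).nW 1 * a.1 * ((hF.tsys F).nW 1)⁻¹ = a.1
        obtain ⟨c, hc⟩ := exists_torus hF a.2
        rw [← hc, nw_eq_nW_conj hF (ω := []) (RefSystem.pr_nil _) c, TorusSys.nw_nil]
        group)
      mul_smul := fun v w a => Subtype.ext (by
        show (hF.tsys F).nW (v * w) * a.1 * ((hF.tsys F).nW (v * w))⁻¹ =
          (hF.tsys F).nW v * ((hF.tsys F).nW w * a.1 * ((hF.tsys F).nW w)⁻¹) * ((hF.tsys F).nW v)⁻¹
        obtain ⟨c, hc⟩ := exists_torus hF a.2
        rw [← hc, nw_eq_nW_conj hF (ω := TorusSys.word v ++ TorusSys.word w)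
          (by rw [RefSystem.pr_append, TorusSys.pr_word, TorusSys.pr_word]) c, TorusSys.nw_append]
        show _ = (hF.tsys F).nw (TorusSys.word v) * _ * ((hF.tsys F).nw (TorusSys.word v))⁻¹
        unfold TorusSys.nW
        group) }
  let pt : List Bool → (hF.tsys F).H := fun v => ⟨torus D F (sv D F v), torus_mem_H hF _⟩
  have hsm : ∀ ω v, v.length = D.rank → hF.refSys.pr ω • pt v = pt (wordB D v (ω.map Fin.val)) := by
    intro ω v hv
    refine Subtype.ext ?_
    show (hF.tsys F).nW _ * _ * _ = _
    rw [nw_eq_nW_conj hF rfl, (nw_sv hF hv ω).1]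
  simp only [okTable, Bool.and_eq_true, decide_eq_true_eq, List.all_eq_true, beq_iff_eq,
    List.mem_range, List.contains_iff_mem] at hT
  obtain ⟨⟨⟨⟨-, hnd⟩, hhead⟩, -⟩, hclosed⟩ := hT
  have hin : ∀ ω : List (Fin D.rank), wordB D b (ω.map Fin.val) ∈ T.map Prod.fst := by
    intro ω
    induction ω with
    | nil => exact List.mem_of_mem_head? (by rw [hhead]; rfl)
    | cons i ω ih =>
      obtain ⟨e, he, he'⟩ := List.mem_map.1 ih
      have := hclosed e he i.val i.isLt
      rw [he'] at this
      exact this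
  have horb : MulAction.orbit hF.weyl (pt b) = ↑((T.map Prod.fst).toFinset.image pt) := by
    ext a
    simp only [MulAction.mem_orbit_iff, Finset.coe_image, Set.mem_image, Finset.mem_coe,
      List.mem_toFinset]
    constructor
    · rintro ⟨w, rfl⟩
      exact ⟨_, hin (TorusSys.word w), by rw [← hsm _ _ hb, TorusSys.pr_word]⟩
    · rintro ⟨v, hv, rfl⟩
      obtain ⟨-, ω, rfl⟩ := hspec v hv
      exact ⟨_, hsm ω b hb⟩
  have hcard : (MulAction.orbit hF.weyl (pt b)).ncard = T.length := by
    rw [horb, Set.ncard_coe_finset, Finset.card_image_of_injOn, List.toFinset_card_of_nodup hnd,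
      List.length_map]
    intro v hv v' hv' he
    rw [Finset.mem_coe, List.mem_toFinset] at hv hv'
    refine sv_inj h2 (hspec v hv).1 (hspec v' hv').1 (mul_inv_eq_one.1 (hinj _ ?_))
    have he' : torus D F (sv D F v) = torus D F (sv D F v') := congrArg Subtype.val he
    rw [map_mul, map_inv, he', mul_inv_cancel]
  rw [← hcard, ← MulAction.index_stabilizer, mul_comm, ← Subgroup.card_mul_index (MulAction.stabilizer hF.weyl (pt b))]
  congr 1
  refine Nat.card_congr (Equiv.subtypeEquivRight fun w => ?_)
  rw [MulAction.mem_stabilizer_iff]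
  exact ⟨fun h => Subtype.ext h, fun h => congrArg Subtype.val h⟩

end Cfsg.Agent.Small.ChevInvol
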